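import Cfsg.Agent.H728.Four.HNFive

/-!
# S5765, the row `HN`: the 5-part of the centralizer of an element of order five (helper87)

`conj_W`: an element `x` of order five with `5 ^ 5 ∣ |C(x)|` is conjugate to a power of the central element `W` of the Sylow
5-subgroup `P = Q⟨F⟩`.
-/

set_option autoImplicit false

namespace Cfsg.Agent.SB.SporD.HNC5

open Subgroup Cfsg Cfsg.Agent.H839.Rad.Ext Cfsg.Agent.H981.InvHN
open Cfsg.Agent.H839.Rad.HN (W A B C₁ D F ext e_fa1 e_fb1 e_fa2 e_fb2 FW e_w5 hW W₁ e_w1 W₁_eq conj_of)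

/-- a subgroup of index dividing `p` of a finite `p`-group contains the commutators -/
theorem comm_mem_of_index {K : Type*} [Group K] [Finite K] {p : ℕ} (hp : p.Prime) (hK : IsPGroup p K) {S : Subgroup K}
    (h : S.index ∣ p) (a b : K) : a * b * a⁻¹ * b⁻¹ ∈ S := by
  have : Fact p.Prime := ⟨hp⟩
  rcases (Nat.dvd_prime hp).1 h with h1 | h1
  · rw [index_eq_one.1 h1]
    exact mem_top _
  · obtain ⟨n, hn⟩ := IsPGroup.iff_card.1 hK
    have hn0 : n ≠ 0 := by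
      rintro rfl
      have h2 := S.index_dvd_card
      rw [hn, h1, pow_zero, Nat.dvd_one] at h2
      exact hp.one_lt.ne' h2
    have hN : S.Normal := Subgroup.normal_of_index_eq_minFac_card (by rw [hn, h1, hp.pow_minFac hn0])
    have hc : Nat.card (K ⧸ S) = p := h1
    have hcyc : IsCyclic (K ⧸ S) := isCyclic_of_prime_card hc
    rw [← QuotientGroup.eq_one_iff]
    have h3 : (a : K ⧸ S) * b = b * a := hcyc.isMulCommutative.is_comm.comm _ _
    change (a : K ⧸ S) * b * (a : K ⧸ S)⁻¹ * (b : K ⧸ S)⁻¹ = 1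
    rw [h3]
    group

theorem card_P : Nat.card P = 5 ^ 6 := by
  have : Fact (Nat.Prime 5) := ⟨by norm_num⟩
  obtain ⟨n, hn⟩ := IsPGroup.iff_card.1 isPGroup_P
  have h1 := P.card_mul_index
  have h2 := index_P
  rw [hn, card_HN] at h1
  have h3 : 5 ^ 6 ∣ 5 ^ n := by
    have h4 : 5 ^ 6 ∣ 5 ^ n * P.index := by rw [h1]; norm_num
    exact (Nat.Coprime.pow_left 6 ((Nat.Prime.coprime_iff_not_dvd Nat.prime_five).2 h2)).dvd_of_dvd_mul_right h4
  have h5 : n ≤ 6 := by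
    by_contra hc
    have h6 : 5 ^ 7 ∣ 273030912000000 := h1 ▸ (pow_dvd_pow 5 (by omega)).mul_right _
    norm_num at h6
  have h6 := (Nat.pow_dvd_pow_iff_le_right (by norm_num)).1 h3
  rw [hn, le_antisymm h5 h6]

theorem P_le : P ≤ centralizer ({W} : Set Spor.HN) := by
  rintro _ ⟨q, hq, s, rfl⟩
  refine mul_mem (mem_centralizer_singleton_iff.2 (ext.comm_w q hq)) (zpow_mem ?_ s)
  exact mem_centralizer_singleton_iff.2 FW

theorem dvd_W : 5 ^ 6 ∣ Nat.card (centralizer ({W} : Set Spor.HN)) := card_P ▸ card_dvd_of_le P_le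

theorem wz (e : ℤ) : W ^ e = nf W A B C₁ D 0 0 0 0 e := by simp [nf]

theorem nf_inv (i j u l m : ℤ) : ∃ m' : ℤ, (nf W A B C₁ D i j u l m)⁻¹ = nf W A B C₁ D (-i) (-j) (-u) (-l) m' := by
  refine ⟨-m - i * j - u * l, inv_eq_of_mul_eq_one_right ?_⟩
  rw [ext.nf_mul, ← nf_zero (w := W) (a := A) (b := B) (c := C₁) (d := D)]
  congr 1 <;> ring

/-- a commutator `[F, a]` -/
theorem comm_F {a : Spor.HN} {i j u l m i' j' u' l' m' : ℤ} (ha : a = nf W A B C₁ D i j u l m)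
    (h : F * a = nf W A B C₁ D i' j' u' l' m' * F) : ∃ e : ℤ,
    F * nf W A B C₁ D i j u l m * F⁻¹ * (nf W A B C₁ D i j u l m)⁻¹ =
      nf W A B C₁ D (i' - i) (j' - j) (u' - u) (l' - l) e := by
  obtain ⟨m'', hm⟩ := nf_inv i j u l m
  rw [ha] at h
  rw [conj_of h, hm, ext.nf_mul]
  exact ⟨_, rfl⟩

theorem nfA : A = nf W A B C₁ D 1 0 0 0 0 := by simp [nf]
theorem nfB : B = nf W A B C₁ D 0 1 0 0 0 := by simp [nf]
theorem nfC : C₁ = nf W A B C₁ D 0 0 1 0 0 := by simp [nf]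
theorem nfD : D = nf W A B C₁ D 0 0 0 1 0 := by simp [nf]

theorem inv5 {a : ℤ} (ha : ¬ (5 : ℤ) ∣ a) : ∃ t : ℕ, (5 : ℤ) ∣ a * t - 1 := by
  have h4 : a % 5 = 1 ∨ a % 5 = 2 ∨ a % 5 = 3 ∨ a % 5 = 4 := by omega
  rcases h4 with h | h | h | h
  · exact ⟨1, by push_cast; omega⟩
  · exact ⟨3, by push_cast; omega⟩
  · exact ⟨2, by push_cast; omega⟩
  · exact ⟨4, by push_cast; omega⟩

/-- the elements of `P` commuting with the commutators of `P` -/
theorem mem_of_comm {x : Spor.HN} (hx : x ∈ P)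
    (h : ∀ a ∈ P, ∀ b ∈ P, Commute x (a * b * a⁻¹ * b⁻¹)) :
    ∃ t m : ℤ, x = nf W A B C₁ D (3 * t) (3 * t) 0 (2 * t) m := by
  obtain ⟨e1, h1⟩ := comm_F nfA e_fa1
  obtain ⟨e2, h2⟩ := comm_F nfB e_fb1
  obtain ⟨e3, h3⟩ := comm_F nfC e_fa2
  have c1 := h F F_mem_P _ (Q_le_P (ext.nf_mem 1 0 0 0 0))
  have c2 := h F F_mem_P _ (Q_le_P (ext.nf_mem 0 1 0 0 0))
  have c3 := h F F_mem_P _ (Q_le_P (ext.nf_mem 0 0 1 0 0))
  rw [h1] at c1
  rw [h2] at c2
  rw [h3] at c3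
  obtain ⟨q, hq, s, rfl⟩ := hx
  by_cases h5 : (5 : ℤ) ∣ s
  · have h0 : F ^ s = 1 := by rw [zpow_eq F5 (i := s) (j := 0) (by simpa using h5), zpow_zero]
    rw [h0, mul_one] at c1 c2 c3 ⊢
    obtain ⟨i, j, u, l, m, rfl⟩ := hq
    have d1 := ext.comm_iff.1 c1.eq
    have d2 := ext.comm_iff.1 c2.eq
    have d3 := ext.comm_iff.1 c3.eq
    push_cast at d1 d2 d3
    refine ⟨2 * i, m, nf_mod ?_ ?_ ?_ ?_⟩ <;> omega
  · exfalso
    obtain ⟨t, ht⟩ := inv5 h5
    obtain ⟨q', hq', he⟩ := pow_form hq s t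
    have c4 := c2.pow_left t
    rw [he, zpow_eq F5 (i := s * t) (j := 1) ht, zpow_one] at c4
    -- `q' F` commutes with `D ^ 4 W ^ e`, hence with `D`
    have cW : Commute (q' * F) W := (show Commute q' W from ext.comm_w q' hq').mul_left FW
    have c5 : Commute (q' * F) D := by
      have k1 : nf W A B C₁ D (0 - 0) (1 - 1) (0 - 0) (4 - 0) e2 = D ^ (4 : ℤ) * W ^ e2 := by simp [nf]
      rw [k1] at c4
      have k2 : Commute (q' * F) (D ^ (4 : ℤ)) := by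
        have k3 := c4.mul_right (cW.zpow_right (-e2))
        rwa [mul_assoc (D ^ (4 : ℤ)), ← zpow_add, add_neg_cancel, zpow_zero, mul_one] at k3
      have k4 := k2.zpow_right 4
      rwa [← zpow_mul, zpow_eq ext.hd (i := 4 * 4) (j := 1) (by norm_num), zpow_one] at k4
    obtain ⟨i, j, u, l, m, rfl⟩ := hq'
    have k5 : nf W A B C₁ D i j u l m * nf W A B C₁ D 4 0 4 4 3 = nf W A B C₁ D 0 0 0 1 0 * nf W A B C₁ D i j u l m := by
      have k6 := c5.eq
      rw [mul_assoc, e_fb2, ← mul_assoc, ← mul_assoc, mul_left_inj] at k6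
      rw [k6, ← nfD]
    rw [ext.nf_mul, ext.nf_mul] at k5
    -- compare the commutators with `B`
    have k7 : ∀ {a b c d e a' b' c' d' e' : ℤ}, nf W A B C₁ D a b c d e = nf W A B C₁ D a' b' c' d' e' →
        (5 : ℤ) ∣ a - a' := by
      intro a b c d e a' b' c' d' e' hh
      obtain ⟨m', hm'⟩ := nf_inv a' b' c' d' e'
      have k8 : nf W A B C₁ D a b c d e * (nf W A B C₁ D a' b' c' d' e')⁻¹ = 1 := by rw [hh, mul_inv_cancel]
      rw [hm', ext.nf_mul] at k8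
      have k9 := (ext.comm_iff (i := a + -a') (j := b + -b') (k := c + -c') (l := d + -d')
        (m := e + m' - -a' * b - -c' * d) (i' := 0) (j' := 1) (k' := 0) (l' := 0) (m' := 0)).1 (by
          rw [k8, one_mul, mul_one])
      push_cast at k9
      omega
    have k10 := k7 k5
    omega

/-- **an element of order five with `5 ^ 5 ∣ |C(x)|` is conjugate to a power of `W`** -/
theorem conj_W {x : Spor.HN} (hx : orderOf x = 5) (h : 5 ^ 5 ∣ Nat.card (centralizer ({x} : Set Spor.HN))) :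
    ∃ (g : Spor.HN) (i : ℕ), 1 ≤ i ∧ i < 5 ∧ g * x * g⁻¹ = W ^ i := by
  have : Fact (Nat.Prime 5) := ⟨by norm_num⟩
  have hx5 : x ^ 5 = 1 := by rw [← hx, pow_orderOf_eq_one]
  -- a 5-subgroup of `C(x)` of order at least `5 ^ 5` containing `x`
  let C := centralizer ({x} : Set Spor.HN)
  have hxC : x ∈ C := mem_centralizer_singleton_iff.2 rfl
  have hz : IsPGroup 5 (zpowers (⟨x, hxC⟩ : C)) :=
    IsPGroup.of_card (n := 1) (by rw [Nat.card_zpowers, Subgroup.orderOf_mk, hx, pow_one])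
  obtain ⟨S, hS⟩ := hz.exists_le_sylow
  have hS5 : 5 ^ 5 ∣ Nat.card S := S.pow_dvd_card_of_pow_dvd_card h
  have hT : IsPGroup 5 ((S : Subgroup C).map C.subtype) := S.isPGroup'.map _
  obtain ⟨R, hR⟩ := hT.exists_le_sylow
  obtain ⟨g, hg⟩ := MulAction.exists_smul_eq Spor.HN R (isPGroup_P.toSylow index_P)
  have h2 : (R : Subgroup Spor.HN).map (MulAut.conj g).toMonoidHom = P :=
    congrArg (fun S : Sylow 5 Spor.HN => (S : Subgroup Spor.HN)) hg
  let T : Subgroup Spor.HN := ((S : Subgroup C).map C.subtype).map (MulAut.conj g).toMonoidHom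
  have hTP : T ≤ P := h2 ▸ map_mono hR
  have hTc : Nat.card T = Nat.card S := by
    rw [card_map_of_injective (MulAut.conj g).injective, card_map_of_injective C.subtype_injective]
  have hTx : ∀ y ∈ T, Commute (g * x * g⁻¹) y := by
    rintro _ ⟨_, ⟨y, -, rfl⟩, rfl⟩
    exact (show Commute x (y : Spor.HN) from (mem_centralizer_singleton_iff.1 y.2).symm).map (MulAut.conj g)
  have hxT : g * x * g⁻¹ ∈ T := ⟨x, ⟨⟨x, hxC⟩, hS (mem_zpowers _), rfl⟩, rfl⟩
  have hi : (T.subgroupOf P).index ∣ 5 := by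
    have h3 := (T.subgroupOf P).card_mul_index
    rw [Nat.card_congr (subgroupOfEquivOfLe hTP).toEquiv, hTc, card_P] at h3
    obtain ⟨r, hr⟩ := hS5
    rw [hr] at h3
    refine ⟨r, Nat.eq_of_mul_eq_mul_left (show 0 < 5 ^ 5 by norm_num) ?_⟩
    rw [← pow_succ, ← h3]
    ring
  obtain ⟨t, m, htm⟩ := mem_of_comm (hTP hxT) fun a ha b hb =>
    hTx _ (comm_mem_of_index Nat.prime_five isPGroup_P hi ⟨a, ha⟩ ⟨b, hb⟩)
  have fin : ∀ (g : Spor.HN) (n : ℤ), g * x * g⁻¹ = W ^ n →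
      ∃ (g : Spor.HN) (i : ℕ), 1 ≤ i ∧ i < 5 ∧ g * x * g⁻¹ = W ^ i := by
    intro g n hn
    have h3 : ¬ (5 : ℤ) ∣ n := by
      intro h4
      rw [zpow_eq e_w5 (i := n) (j := 0) (by simpa using h4), zpow_zero, conj_eq_one_iff] at hn
      rw [hn, orderOf_one] at hx
      norm_num at hx
    refine ⟨g, (n % 5).toNat, by omega, by omega, ?_⟩
    rw [hn, ← zpow_natCast]
    exact zpow_eq e_w5 (by omega)
  by_cases h5 : (5 : ℤ) ∣ t
  · refine fin g m ?_
    rw [htm, wz]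
    apply nf_mod <;> omega
  · obtain ⟨e, -, he⟩ := ext.nf_pow 3 3 0 2 1 (t % 5).toNat
    rw [← e_w1, W₁_eq, conj_pow] at he
    obtain ⟨s, hs⟩ := H728.Four.HN5.conj_central (i := 3 * t) (j := 3 * t) (c := 0) (l := 2 * t) (Or.inl (by omega)) m
      (((t % 5).toNat : ℤ) * 1 - e * (3 * 3 + 0 * 2) - m)
    refine fin (H839.Rad.HN.G⁻¹ * (s * g)) ((t % 5).toNat : ℤ) ?_
    have h6 : s * (g * x * g⁻¹) * s⁻¹ = H839.Rad.HN.G * W ^ (t % 5).toNat * H839.Rad.HN.G⁻¹ := by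
      rw [htm, hs, he, add_sub_cancel]
      apply nf_mod <;> omega
    rw [zpow_natCast]
    calc H839.Rad.HN.G⁻¹ * (s * g) * x * (H839.Rad.HN.G⁻¹ * (s * g))⁻¹
        = H839.Rad.HN.G⁻¹ * (s * (g * x * g⁻¹) * s⁻¹) * H839.Rad.HN.G := by group
      _ = _ := by rw [h6]; group

end Cfsg.Agent.SB.SporD.HNC5
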