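import Cfsg.Agent.T44.Spor.HN
import Cfsg.Agent.H569.HNFiveN
import Cfsg.Agent.H481.EB.HNLoc
import Cfsg.Agent.H513.HNH0

/-!
# S5765, the row `HN`: the 2-part and the 3-part of the centralizer of an element of order five (helper87)

* `not_27`: `27 ∤ |C(x)|`;
* `not_64`: `64 ∤ |C(x)|`; `six_of_32`: `32 ∣ |C(x)|` implies `5 ^ 6 ∣ |C(x)|`;
* `six_w1`: `5 ^ 6 ∣ |C(ψ w1)|`.
-/

set_option autoImplicit false
set_option maxRecDepth 100000

namespace Cfsg.Agent.SB.SporD.HNC5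

open Subgroup Cfsg

section three

open Cfsg.Agent.CpAutHN.Alt Cfsg.Agent.CpAutHN.Pairs
open Cfsg.Agent.H569.HNThree (MM ss)
open Cfsg.Agent.H478.HNThree
open Cfsg.Agent.H187.Ore.HN15
open Cfsg.Agent.H187.Ore.HNX1 (exists_perm)
open Cfsg.Agent.T44.Spor (exists_central hn_mem)

attribute [local instance] Cfsg.Agent.H569.HNThree.finite_G

/-- subgroups commuting with `X1` and with an element of order 5 -/
theorem card_dvd_360 {y : G} (hy : orderOf y = 5) (h1 : y * X1 = X1 * y) {T : Subgroup G}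
    (hX : ∀ u ∈ T, u * X1 = X1 * u) (hT : ∀ u ∈ T, u * y = y * u) : Nat.card T ∣ 360 := by
  obtain ⟨f, rfl⟩ := exists_perm h1
  have hf : orderOf (f : Equiv.Perm (Fin 12)) = 5 := by
    rw [Subgroup.orderOf_coe, ← orderOf_injective Φ Φ_inj, hy]
  have hfx : (f : Equiv.Perm (Fin 12)) * x1 = x1 * f :=
    congrArg Subtype.val (comm_of_Φ (a := f) (b := ⟨x1, x1_mem⟩) h1)
  rw [← card_perm hf hfx]
  have e1 : (T.comap Φ).map Φ = T := map_comap_eq_self fun u hu => exists_perm (hX u hu)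
  rw [← e1, card_map_of_injective Φ_inj, ← card_map_of_injective (alternatingGroup (Fin 12)).subtype_injective]
  refine card_dvd_of_le ?_
  rintro _ ⟨a, ha, rfl⟩
  have h2 : a * (⟨x1, x1_mem⟩ * f) = (⟨x1, x1_mem⟩ * f) * a := by
    apply comm_of_Φ
    rw [map_mul]
    exact ((show Commute (Φ a) X1 from hX _ ha).mul_right (show Commute (Φ a) (Φ f) from hT _ ha)).eq
  exact mem_centralizer_singleton_iff.2 (congrArg Subtype.val h2)

/-- **the 3-part** -/
theorem not_27 {y : Spor.HN} (hy : orderOf y = 5) : ¬ 3 ^ (2 + 1) ∣ Nat.card (centralizer ({y} : Set Spor.HN)) := by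
  intro hd
  obtain ⟨P, hP, hc, z, hz, ho, hzc⟩ := exists_central Nat.prime_three hd
  have hzy : z * y = y * z := mem_centralizer_singleton_iff.1 (hP hz)
  have hyo : ∀ c : G, orderOf (c * y * c⁻¹) = 5 := fun c => by rw [orderOf_conj, hy]
  have hcard : ∀ c : G, Nat.card (P.map (MulAut.conj c).toMonoidHom) = 3 ^ (2 + 1) := fun c => by
    rw [card_map_of_injective (MulAut.conj c).injective, hc]
  rcases types ho hy hzy with ⟨c, h⟩ | ⟨c, h⟩
  · have h1 : c * y * c⁻¹ * X1 = X1 * (c * y * c⁻¹) := by rw [← h]; exact conj_comm c hzy.symm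
    have h2 := card_dvd_360 (hyo c) h1 (T := P.map (MulAut.conj c).toMonoidHom) (by
      rintro _ ⟨u, hu, rfl⟩
      rw [← h]
      exact conj_comm c (hzc u hu)) (by
      rintro _ ⟨u, hu, rfl⟩
      exact conj_comm c (mem_centralizer_singleton_iff.1 (hP hu)))
    rw [hcard] at h2
    norm_num at h2
  · have m2 : c * y * c⁻¹ ∈ MM := mem_centralizer_singleton_iff.2 (by rw [← h]; exact conj_comm c hzy.symm)
    have h3 : P.map (MulAut.conj c).toMonoidHom ≤ zpowers X3 := by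
      rintro _ ⟨u, hu, rfl⟩
      have m1 : c * u * c⁻¹ ∈ MM := mem_centralizer_singleton_iff.2 (by rw [← h]; exact conj_comm c (hzc u hu))
      have e1 : u ^ 3 ^ (2 + 1) = 1 := by
        rw [← hc]
        exact congrArg Subtype.val (pow_card_eq_one' (x := (⟨u, hu⟩ : P)))
      obtain ⟨n, hn⟩ := hn_mem (y := ⟨_, m2⟩) (u := ⟨_, m1⟩) (k := 2 + 1) (by rw [orderOf_mk, hyo])
        (Subtype.ext (by change (c * u * c⁻¹) ^ _ = 1; rw [conj_pow, e1, mul_one, mul_inv_cancel]))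
        (Subtype.ext (conj_comm c (mem_centralizer_singleton_iff.1 (hP hu)).symm))
      exact ⟨n, congrArg Subtype.val hn⟩
    have h4 := card_dvd_of_le h3
    rw [hcard, Nat.card_zpowers, order_X3] at h4
    norm_num at h4

end three

section two

open Cfsg.Agent.HN.Pres Cfsg.Agent.HN.H0Basic
open Cfsg.Agent.HN.P1408 hiding ψ
open Cfsg.Agent.HN.NormalH (ψ)
open Cfsg.Agent.HN.XWords (W0 W0_sq)
open Cfsg.Agent.KFacts.HN
open Cfsg.Agent.CpAutHN.PPFacts (isPGroup_ker app_eq_of_comm mem_ker_iff)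
open Cfsg.Agent.CpAutHNFive Cfsg.Agent.CpAutHNFive.LFive Cfsg.Agent.CpAutHNFive.PFive Cfsg.Agent.CpAutHNFive.TFive
open Cfsg.Agent.CpAutHNFive.HTab hiding c5
open Cfsg.Agent.CpAutHNFive.HFacts Cfsg.Agent.CpAutHNFive.TauFive
open Cfsg.Agent.H555.Hall.HNFive (card_conj dvd125)
open Cfsg.Agent.T44.Spor (exists_central)

theorem not_32_w1 : ¬ 32 ∣ Nat.card ↥(centralizer ({hw w1} : Set H0)) := by
  have := finite_H0
  intro h
  have h1 := Nat.le_of_dvd Nat.card_pos (Nat.Coprime.mul_dvd_of_dvd_of_dvd (by norm_num) h dvd125)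
  have h2 := H513.HNH0.card_le_five
  omega

/-- an element of order 5 and an involution of class 2A -/
theorem pair_A {x v : G} (hx : orderOf x = 5) (hv : IsConj v (ψ τ)) (hvx : v * x = x * v) :
    ¬ 32 ∣ Nat.card ↥(centralizer ({x} : Set G) ⊓ centralizer ({v} : Set G) : Subgroup G) := by
  obtain ⟨c, hc⟩ := isConj_iff.1 hv
  have h1 : c * x * c⁻¹ * ψ τ = ψ τ * (c * x * c⁻¹) := by
    rw [← hc]
    calc c * x * c⁻¹ * (c * v * c⁻¹) = c * (x * v) * c⁻¹ := by group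
      _ = c * (v * x) * c⁻¹ := by rw [hvx]
      _ = _ := by group
  obtain ⟨y, hy⟩ := emb.cent _ h1
  have hy5 : orderOf y = 5 := by
    rw [← orderOf_injective ψ emb.inj, hy, ← hx]
    exact MulEquiv.orderOf_eq (MulAut.conj c) x
  rw [card_conj c x v, hc, ← hy, H555.Hall.HNFive.card_H0]
  obtain ⟨g, m, hm1, hm5, w, hw', hg⟩ := five_conj hy5
  have hw5 : orderOf (hw w) = 5 := by
    rcases hw' with rfl | rfl | rfl
    · exact order_w1
    · exact order_w2
    · exact order_w3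
  obtain ⟨e⟩ := cequiv_pow (x := hw w) (y := y) hw5 (g := g⁻¹) hm1 hm5 (by rw [← hg]; group)
  rw [← Nat.card_congr e.toEquiv]
  rcases hw' with rfl | rfl | rfl
  · exact not_32_w1
  · exact not_dvd_two
  · rw [HFacts.card_three]
    norm_num

/-- type II: 5-central -/
theorem six_two {y : PP} (hy : orderOf y = 5) (h : ρ y = φA c5 * φB (c5 ^ 3)) :
    5 ^ 6 ∣ Nat.card ↥(centralizer ({(y : G)} : Set G)) := by
  obtain ⟨a, b, hab⟩ := H569.HNFive.exists_pair
  obtain ⟨q, -, hq⟩ := CpAutTh.RankOne.conj_of_quot Nat.prime_two Nat.prime_five (by norm_num) ρ isPGroup_ker hab.xo hy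
    (hab.ρx.trans h.symm)
  have h1 : (y : G) = (q : G) * ((a * b ^ 3 : PP) : G) * (q : G)⁻¹ := by rw [← hq]; rfl
  rw [h1, ← Nat.card_congr (cequiv (q : G) ((a * b ^ 3 : PP) : G)).toEquiv]
  exact hab.dvd_Mx

theorem six_w1 : 5 ^ 6 ∣ Nat.card ↥(centralizer ({ψ (hw w1)} : Set G)) := by
  obtain ⟨y, hy, h, ⟨e⟩⟩ := BpSpor.HNFiveA.w1_two
  rw [Nat.card_congr e.toEquiv]
  exact six_two hy h

/-- type II: the 2-subgroups of `C(y) ∩ C(W0)` -/
theorem not_64_two {y : PP} (h : ρ y = φA c5 * φB (c5 ^ 3)) :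
    ¬ 2 ^ (5 + 1) ∣ Nat.card ↥(centralizer ({(y : G)} : Set G) ⊓ centralizer ({W0} : Set G) : Subgroup G) := by
  intro hd
  obtain ⟨T, hT, hc, -⟩ := exists_central Nat.prime_two hd
  have key : ∀ u : T, ∃ p : fixC.toFinset × Bool,
      (u : G) = Cfsg.Agent.HN.XStruct.r Cfsg.Agent.HN.XWords.Q (p.1 : ℕ) * Cfsg.Agent.HN.XWords.sgn0 p.2 := by
    intro u
    have hu := hT u.2
    let v : PP := ⟨(u : G), mem_PP.2 (mem_centralizer_singleton_iff.1 hu.2)⟩
    have hvy : v * y = y * v := Subtype.ext (mem_centralizer_singleton_iff.1 hu.1)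
    have hv : v ^ 2 ^ (5 + 1) = 1 := by
      rw [← hc]
      have h1 : (u : G) ^ Nat.card T = 1 := congrArg Subtype.val (pow_card_eq_one' (x := u))
      exact Subtype.ext h1
    obtain ⟨m, hm, c, hvm⟩ := mem_ker_iff.1 (show v ∈ ρ.ker from ρ_two h hvy hv)
    exact ⟨(⟨m, List.mem_toFinset.2 (mem_fixC.2 ⟨hm, app_eq_of_comm (ρ_C h) hm hvm hvy⟩)⟩, c), hvm⟩
  choose f hf using key
  have h2 := Nat.card_le_card_of_injective f fun a b hab => Subtype.ext (by rw [hf a, hf b, hab])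
  rw [hc, Nat.card_prod, Nat.card_eq_fintype_card, Fintype.card_coe, Nat.card_eq_fintype_card, Fintype.card_bool] at h2
  have h3 := fixC.toFinset_card_le
  rw [length_fixC] at h3
  omega

/-- an element of order 5 and an involution of class 2B -/
theorem pair_B {x v : G} (hx : orderOf x = 5) (hv : IsConj v W0) (hvx : v * x = x * v) :
    ¬ 2 ^ (5 + 1) ∣ Nat.card ↥(centralizer ({x} : Set G) ⊓ centralizer ({v} : Set G) : Subgroup G) ∧
    (16 ∣ Nat.card ↥(centralizer ({x} : Set G) ⊓ centralizer ({v} : Set G) : Subgroup G) →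
      5 ^ 6 ∣ Nat.card ↥(centralizer ({x} : Set G))) := by
  obtain ⟨c, hc⟩ := isConj_iff.1 hv
  have hxW : c * x * c⁻¹ * W0 = W0 * (c * x * c⁻¹) := by
    rw [← hc]
    calc c * x * c⁻¹ * (c * v * c⁻¹) = c * (x * v) * c⁻¹ := by group
      _ = c * (v * x) * c⁻¹ := by rw [hvx]
      _ = _ := by group
  have hx' : orderOf (c * x * c⁻¹) = 5 := by
    rw [← hx]
    exact MulEquiv.orderOf_eq (MulAut.conj c) x
  rw [card_conj c x v, hc, Nat.card_congr (cequiv c x).toEquiv]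
  generalize c * x * c⁻¹ = z at hxW hx'
  have hxP : orderOf (⟨z, mem_PP.2 hxW⟩ : PP) = 5 := by rw [← Subgroup.orderOf_coe]; exact hx'
  obtain ⟨g, m, hm1, hm5, h⟩ := conj_std hxP
  let y : PP := g * ⟨z, mem_PP.2 hxW⟩ ^ m * g⁻¹
  have hy : (y : G) = (g : G) * z ^ m * (g : G)⁻¹ := rfl
  have hy5 : orderOf y = 5 := by
    have h1 : orderOf ((⟨z, mem_PP.2 hxW⟩ : PP) ^ m) = 5 := by
      rw [orderOf_pow, hxP]
      interval_cases m <;> rfl
    rw [← h1]
    exact MulEquiv.orderOf_eq (MulAut.conj g) _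
  have hgW : (g : G) * W0 * (g : G)⁻¹ = W0 := by rw [mem_PP.1 g.2, mul_inv_cancel_right]
  obtain ⟨e⟩ := cequiv_pow hx' hm1 hm5 hy.symm
  rw [Nat.card_congr e.toEquiv, ← centralizer_pow hx' hm1 hm5, card_conj (g : G) (z ^ m) W0, hgW, ← hy]
  rcases h with h | h | h
  · rw [← card_pair y, H481.EB.HN.card_cent hy5 h]
    exact ⟨by norm_num, fun h => absurd h (by norm_num)⟩
  · have h2 := TFive.card_three (x := y) h
    rw [card_pair] at h2
    exact ⟨fun h => absurd (h.trans h2) (by norm_num), fun h => absurd (h.trans h2) (by norm_num)⟩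
  · exact ⟨not_64_two h, fun _ => six_two hy5 h⟩

theorem exists_inv {x : G} {k : ℕ} (h : 2 ^ (k + 1) ∣ Nat.card ↥(centralizer ({x} : Set G))) :
    ∃ v : G, orderOf v = 2 ∧ v * x = x * v ∧
      2 ^ (k + 1) ∣ Nat.card ↥(centralizer ({x} : Set G) ⊓ centralizer ({v} : Set G) : Subgroup G) := by
  obtain ⟨T, hT, hc, v, hv, ho, hvc⟩ := exists_central Nat.prime_two h
  refine ⟨v, ho, mem_centralizer_singleton_iff.1 (hT hv), ?_⟩
  rw [← hc]
  exact card_dvd_of_le fun u hu => ⟨hT hu, mem_centralizer_singleton_iff.2 (hvc u hu)⟩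

/-- **the 2-part** -/
theorem not_64 {x : G} (hx : orderOf x = 5) : ¬ 2 ^ (5 + 1) ∣ Nat.card ↥(centralizer ({x} : Set G)) := by
  intro h
  obtain ⟨v, hv, hvx, hd⟩ := exists_inv h
  rcases Classes.inv_class hv with h1 | h1
  · exact pair_A hx h1 hvx (Dvd.dvd.trans (by norm_num) hd)
  · exact (pair_B hx h1 hvx).1 hd

theorem six_of_32 {x : G} (hx : orderOf x = 5) (h : 2 ^ (4 + 1) ∣ Nat.card ↥(centralizer ({x} : Set G))) :
    5 ^ 6 ∣ Nat.card ↥(centralizer ({x} : Set G)) := by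
  obtain ⟨v, hv, hvx, hd⟩ := exists_inv h
  rcases Classes.inv_class hv with h1 | h1
  · exact absurd hd (pair_A hx h1 hvx)
  · exact (pair_B hx h1 hvx).2 (Dvd.dvd.trans (by norm_num) hd)

end two

end Cfsg.Agent.SB.SporD.HNC5
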