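import Cfsg.Agent.SB.SporD.HN0
import Cfsg.Agent.SB.SporD.HNC5A
import Cfsg.Agent.SB.SporD.HNC5B

/-!
# S5765, the row `HN`: centralizers of the elements of order five (helper87)

* `HN.boxCW`: `|C(x)|` divides `500000` if `5 ^ 6` divides it; `HNC5.cn_dvd`: otherwise it divides `630000`;
* `HN.boxC5`: `|C(x)| ≤ 630000`.
-/

set_option autoImplicit false

namespace Cfsg.Agent.SB.SporD.HNC5

open Subgroup Cfsg
open Cfsg.Agent.H651.HNF (raw cn)
open Cfsg.Agent.SB.SporD.HN (G cardG finG)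
open Cfsg.Agent.H839.Rad.HN (W hW)
open Cfsg.Agent.CpAutHNFive.TauFive (cequiv centralizer_pow)

theorem dvd_cut {n p k m a : ℕ} (hp : p.Prime) (h : n ∣ p ^ k * m) (hn : ¬ p ^ (a + 1) ∣ n) : n ∣ p ^ a * m := by
  obtain ⟨n1, n2, h1, h2, rfl⟩ := exists_dvd_and_dvd_of_dvd_mul h
  obtain ⟨i, -, rfl⟩ := (Nat.dvd_prime_pow hp).1 h1
  refine Nat.mul_dvd_mul (pow_dvd_pow p ?_) h2
  by_contra hc
  exact hn ((pow_dvd_pow p (by omega)).mul_right _)

/-- all elements of order five with `5 ^ 5 ∣ |C(x)|` have the centralizer order of `W` -/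
theorem cn_eq_W {x : G} (hx : orderOf x = 5) (h : 5 ^ 5 ∣ cn x) : cn x = cn W := by
  obtain ⟨g, i, h1, h5, hg⟩ := conj_W hx h
  unfold cn
  rw [Nat.card_congr (cequiv g x).toEquiv, hg, centralizer_pow hW h1 h5]

theorem six_of_five {x : G} (hx : orderOf x = 5) (h : 5 ^ 5 ∣ cn x) : 5 ^ 6 ∣ cn x := by
  rw [cn_eq_W hx h]
  exact dvd_W

theorem not_dvd_W {t : ℕ} (ht : t.Prime) (h2 : t ≠ 2) (h5 : t ≠ 5) : ¬ t ∣ cn W := by
  have h1 := cn_eq_W (x := Cfsg.Agent.HN.NormalH.ψ (Cfsg.Agent.HN.P1408.hw CpAutHNFive.HTab.w1))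
    (by rw [H555.Hall.HNFive.order_ψ]; exact CpAutHNFive.HFacts.order_w1) (Dvd.dvd.trans (by norm_num) six_w1)
  rw [← h1]
  exact H555.Hall.HNFive.not_dvd_w1 ht h2 h5

theorem cn_dvd_card (x : G) : cn x ∣ 273030912000000 := cardG ▸ card_subgroup_dvd_card _

theorem cn_dvd_W {x : G} (hx : orderOf x = 5) (h : 5 ^ 5 ∣ cn x) : cn x ∣ 500000 := by
  have k : ∀ {t : ℕ}, t.Prime → t ≠ 2 → t ≠ 5 → ¬ t ^ (0 + 1) ∣ cn x := fun ht h2 h5 => by
    rw [zero_add, pow_one, cn_eq_W hx h]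
    exact not_dvd_W ht h2 h5
  have h1 : cn x ∣ 2 ^ 14 * (3 ^ 6 * 5 ^ 6 * 7 * 11 * 19) := (cn_dvd_card x).trans (by norm_num)
  have h2 : cn x ∣ 3 ^ 6 * (2 ^ 5 * 5 ^ 6 * 7 * 11 * 19) := (dvd_cut Nat.prime_two h1 (not_64 hx)).trans (by norm_num)
  have h3 : cn x ∣ 7 ^ 1 * (2 ^ 5 * 5 ^ 6 * 11 * 19) :=
    (dvd_cut Nat.prime_three h2 (k (by norm_num) (by norm_num) (by norm_num))).trans (by norm_num)
  have h4 : cn x ∣ 11 ^ 1 * (2 ^ 5 * 5 ^ 6 * 19) :=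
    (dvd_cut (by norm_num) h3 (k (by norm_num) (by norm_num) (by norm_num))).trans (by norm_num)
  have h5 : cn x ∣ 19 ^ 1 * (2 ^ 5 * 5 ^ 6) :=
    (dvd_cut (by norm_num) h4 (k (by norm_num) (by norm_num) (by norm_num))).trans (by norm_num)
  exact (dvd_cut (by norm_num) h5 (k (by norm_num) (by norm_num) (by norm_num))).trans (by norm_num)

/-- a prime dividing `|C(x)|` gives an element `y` of that order with `5 ∣ |C(y)|` -/
theorem exists_comm {x : G} (hx : orderOf x = 5) {t : ℕ} (ht : t.Prime) (h : t ^ (0 + 1) ∣ cn x) :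
    ∃ y : G, orderOf y = t ∧ 5 ∣ cn y := by
  have := finG
  have : Fact t.Prime := ⟨ht⟩
  rw [zero_add, pow_one] at h
  obtain ⟨y, hy⟩ := exists_prime_orderOf_dvd_card' (G := centralizer ({x} : Set G)) t h
  refine ⟨y, by rw [Subgroup.orderOf_coe, hy], ?_⟩
  rw [← hx]
  exact Subgroup.orderOf_dvd_natCard _ (mem_centralizer_singleton_iff.2 (mem_centralizer_singleton_iff.1 y.2).symm)

/-- **the elements of order five which are not 5-central** -/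
theorem cn_dvd {x : G} (hx : orderOf x = 5) (h : ¬ 5 ^ 6 ∣ cn x) : cn x ∣ 630000 := by
  have h1 : cn x ∣ 2 ^ 14 * (3 ^ 6 * 5 ^ 6 * 7 * 11 * 19) := (cn_dvd_card x).trans (by norm_num)
  have h2 : cn x ∣ 3 ^ 6 * (2 ^ 4 * 5 ^ 6 * 7 * 11 * 19) :=
    (dvd_cut Nat.prime_two h1 fun h' => h (six_of_32 hx h')).trans (by norm_num)
  have h3 : cn x ∣ 5 ^ 6 * (2 ^ 4 * 3 ^ 2 * 7 * 11 * 19) := (dvd_cut Nat.prime_three h2 (not_27 hx)).trans (by norm_num)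
  have h4 : cn x ∣ 11 ^ 1 * (2 ^ 4 * 3 ^ 2 * 5 ^ 4 * 7 * 19) :=
    (dvd_cut (a := 4) Nat.prime_five h3 fun h' => h (six_of_five hx h')).trans (by norm_num)
  have h5 : cn x ∣ 19 ^ 1 * (2 ^ 4 * 3 ^ 2 * 5 ^ 4 * 7) :=
    (dvd_cut (a := 0) (by norm_num) h4 fun h' => by
      obtain ⟨y, hy, hd⟩ := exists_comm hx (by norm_num) h'
      rw [raw.r11 y hy] at hd
      norm_num at hd).trans (by norm_num)
  exact (dvd_cut (a := 0) (by norm_num) h5 fun h' => by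
      obtain ⟨y, hy, hd⟩ := exists_comm hx (by norm_num) h'
      rw [raw.r19 y hy] at hd
      norm_num at hd).trans (by norm_num)

end Cfsg.Agent.SB.SporD.HNC5

namespace Cfsg.Agent.SB.SporD.HN

theorem boxCW : BoxCW := fun _ hx h => HNC5.cn_dvd_W hx (Dvd.dvd.trans (by norm_num) h)

theorem boxC5 : BoxC5 := fun x hx => by
  by_cases h : 5 ^ 6 ∣ H651.HNF.cn x
  · exact (Nat.le_of_dvd (by norm_num) (boxCW x hx h)).trans (by norm_num)
  · exact Nat.le_of_dvd (by norm_num) (HNC5.cn_dvd hx h)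

end Cfsg.Agent.SB.SporD.HN
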