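import Cfsg.Agent.SB.SporD.HN0
import Cfsg.Agent.H235.AA.HN

/-!
# S5765, the row `HN`: `O₃(R) ≠ 1` (helper72)
-/

set_option autoImplicit false

namespace Cfsg.Agent.SB.SporD.HN

open Subgroup Cfsg Cfsg.Agent.H786.FC Cfsg.Agent.SB.Mon Cfsg.Agent.SB.Spor
open Cfsg.Agent.H651.HNF (raw cn)

namespace F3

theorem fit_split {A : Type*} [Group A] [Finite A] {S : Subgroup A}
    (h : ∀ c ∈ fit S, (orderOf c).Prime → orderOf c = 3 ∨ orderOf c = 5) {f : A} (hf : f ∈ fit S) :
    ∃ x ∈ core 3 S, ∃ a ∈ core 5 S, f = x * a := by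
  have h0 : orderOf f ≠ 0 := (orderOf_pos f).ne'
  obtain ⟨i, m, hm, e⟩ := Nat.exists_eq_pow_mul_and_not_dvd h0 3 (by norm_num)
  have hm0 : m ≠ 0 := fun h => hm (h ▸ dvd_zero 3)
  have h1 : m = 5 ^ m.primeFactorsList.length := Nat.eq_prime_pow_of_unique_prime_dvd hm0 fun {q} hq hd => by
    have h2 : q ∣ orderOf f := e ▸ hd.mul_left _
    have h3 := orderOf_pow_orderOf_div h0 h2
    rcases h _ (pow_mem hf (orderOf f / q)) (by rw [h3]; exact hq) with h4 | h4
    · exact absurd (h3.symm.trans h4 ▸ hd) hm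
    · exact h3.symm.trans h4
  generalize m.primeFactorsList.length = j at h1
  subst h1
  have hc : Nat.Coprime (3 ^ i) (5 ^ j) := Nat.Coprime.pow _ _ (by norm_num)
  obtain ⟨a, h2, h3⟩ := Nat.chineseRemainder hc 1 0
  obtain ⟨b, h4, h5⟩ := Nat.chineseRemainder hc 0 1
  refine ⟨f ^ a, SporB.mem_core_pow (pow_mem hf a) Nat.prime_three (k := i) ?_, f ^ b,
    SporB.mem_core_pow (pow_mem hf b) Nat.prime_five (k := j) ?_, ?_⟩
  · rw [← pow_mul, ← orderOf_dvd_iff_pow_eq_one, e, mul_comm a]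
    exact Nat.mul_dvd_mul_left _ ((Nat.modEq_zero_iff_dvd).1 h3)
  · rw [← pow_mul, ← orderOf_dvd_iff_pow_eq_one, e]
    exact Nat.mul_dvd_mul_right ((Nat.modEq_zero_iff_dvd).1 h4) _
  · rw [← pow_add]
    nth_rewrite 1 [← pow_one f]
    rw [pow_eq_pow_iff_modEq, e]
    exact ((Nat.modEq_and_modEq_iff_modEq_mul hc).1 ⟨h2.add h4, h3.add h5⟩).symm

theorem card_sylow [Fact (Nat.Prime 3)] (P : Sylow 3 G) : Nat.card P = 729 := by
  have := finG
  rw [P.card_eq_multiplicity, cardG]
  have h : Nat.factorization 273030912000000 3 = 6 := by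
    rw [show 273030912000000 = 3 ^ 6 * 374528000000 by norm_num,
      Nat.factorization_mul (by norm_num) (by norm_num), Nat.prime_three.factorization_pow, Finsupp.add_apply,
      Finsupp.single_eq_same, Nat.factorization_eq_zero_of_not_dvd (by norm_num)]
  rw [h]
  norm_num

/-- a 3-subgroup centralizes an element of the class 3B -/
theorem exists_z {U : Subgroup G} (hU : IsPGroup 3 U) :
    ∃ z : G, orderOf z = 3 ∧ cn z = 29160 ∧ ∀ u ∈ U, z * u = u * z := by
  have := finG
  have f3 : Fact (Nat.Prime 3) := ⟨Nat.prime_three⟩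
  obtain ⟨P, hP⟩ := hU.exists_le_sylow
  have hc := card_sylow P
  have : Nontrivial P := Finite.one_lt_card_iff_nontrivial.1 (by rw [hc]; norm_num)
  have := P.2.center_nontrivial
  have h1 : IsPGroup 3 (center P) := P.2.to_subgroup _
  obtain ⟨k, hk, hk'⟩ := h1.nontrivial_iff_card.1 this
  obtain ⟨z, hz⟩ := exists_prime_orderOf_dvd_card' (G := center P) 3 (by rw [hk']; exact dvd_pow_self 3 hk.ne')
  have ho : orderOf ((z : P) : G) = 3 := by rw [Subgroup.orderOf_coe, Subgroup.orderOf_coe, hz]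
  have hz' : ∀ u ∈ (P : Subgroup G), ((z : P) : G) * u = u * (z : P) := fun u hu =>
    (congrArg Subtype.val (mem_center_iff.1 z.2 ⟨u, hu⟩)).symm
  refine ⟨_, ho, ?_, fun u hu => hz' u (hP hu)⟩
  have h2 : Nat.card P ∣ cn ((z : P) : G) :=
    card_dvd_of_le fun u hu => mem_centralizer_singleton_iff.2 (hz' u hu).symm
  rw [hc] at h2
  rcases raw.r3 _ ho with h | h
  · rw [h] at h2
    norm_num at h2
  · exact h

theorem card_mul_le' {U Z : Subgroup G} (hU : IsPGroup 3 U) (hZ : Z ≤ U) (hc : ∀ a ∈ U, ∀ b ∈ Z, a * b = b * a) :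
    Nat.card U * Nat.card Z ≤ 6561 := by
  have := finG
  have f3 : Fact (Nat.Prime 3) := ⟨Nat.prime_three⟩
  have E := H235.AA.HN3.ext
  obtain ⟨P, hP⟩ := (E.isPGroup (by decide)).exists_le_sylow
  obtain ⟨P', hP'⟩ := hU.exists_le_sylow
  obtain ⟨g, hg⟩ := MulAction.exists_smul_eq G P' P
  have hm : ∀ X : Subgroup G, X ≤ U → X.map (MulAut.conj g).toMonoidHom ≤ P := fun X hX => by
    rw [← hg]
    exact map_mono (hX.trans hP')
  have hi : ∀ X : Subgroup G, Nat.card (X.map (MulAut.conj g).toMonoidHom) = Nat.card X := fun X =>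
    card_map_of_injective (MulAut.conj g).injective
  have hr : Nat.card E.Q * E.Q.relIndex P = 729 := by
    rw [← card_sylow P]
    exact card_eq_mul_relIndex hP
  have hQ := E.le_card
  have hr3 : E.Q.relIndex P ≤ 3 := by
    by_contra h
    have := Nat.mul_le_mul hQ (not_le.1 h)
    omega
  have key : ∀ X : Subgroup G, X ≤ P → Nat.card X ≤ Nat.card ↥(X ⊓ E.Q) * E.Q.relIndex P := fun X hX => by
    rw [← card_eq_mul_relIndex (inf_le_left : X ⊓ E.Q ≤ X), inf_relIndex_left]
    exact Nat.mul_le_mul_left _ (relIndex_le_of_le_right hX (fun h => by rw [h] at hr; omega))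
  have h1 := card_mul_le Nat.prime_three E.hw E.comm_w E.commutator_mem (fun _ hs h => E.center hs h)
    (A := U.map (MulAut.conj g).toMonoidHom ⊓ E.Q) (B := Z.map (MulAut.conj g).toMonoidHom ⊓ E.Q) inf_le_right
    inf_le_right (by
      rintro _ ⟨⟨a, ha, rfl⟩, -⟩ _ ⟨⟨b, hb, rfl⟩, -⟩
      rw [← map_mul, hc a ha b hb, map_mul])
  have h2 := Nat.mul_le_mul (key _ (hm U le_rfl)) (key _ (hm Z hZ))
  rw [hi, hi, mul_mul_mul_comm] at h2
  refine h2.trans ((Nat.mul_le_mul_right _ h1).trans ?_)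
  rw [mul_assoc, ← mul_assoc (Nat.card E.Q), hr]
  omega

theorem comm_five {A : Type*} [Group A] {z v : A} (hz : z ^ 3 = 1) (hv : orderOf v = 5)
    (h : z * v * z⁻¹ ∈ zpowers v) : z * v = v * z := by
  classical
  have hf : IsOfFinOrder v := orderOf_pos_iff.1 (by omega)
  obtain ⟨k, hk, e⟩ := Finset.mem_image.1 (hf.mem_zpowers_iff_mem_range_orderOf.1 h)
  rw [hv, Finset.mem_range] at hk
  have h1 : ∀ n : ℕ, z ^ n * v * (z ^ n)⁻¹ = v ^ k ^ n := by
    intro n
    induction n with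
    | zero => simp
    | succ n ih =>
      rw [pow_succ', pow_succ' k, pow_mul, e, conj_pow, ← ih]
      group
  have h2 := h1 3
  rw [hz, one_mul, inv_one, mul_one] at h2
  nth_rewrite 1 [← pow_one v] at h2
  rw [pow_eq_pow_iff_modEq, hv] at h2
  have h3 : k = 1 := by
    interval_cases k <;> first | rfl | exact absurd h2 (by decide)
  rw [h3, pow_one] at e
  exact mul_inv_eq_iff_eq_mul.1 e.symm

end F3

open F3 in
theorem boxF3_of (h5 : BoxC5) : BoxF3 := by
  classical
  rintro R hR ⟨c, hc, hc3⟩ h35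
  have := finG
  have f3 : Fact (Nat.Prime 3) := ⟨Nat.prime_three⟩
  have f5 : Fact (Nat.Prime 5) := ⟨Nat.prime_five⟩
  have hcU := mem_core hc Nat.prime_three hc3
  have hU0 : core 3 R ≠ ⊥ := fun hb => by
    rw [hb, mem_bot] at hcU
    rw [hcU, orderOf_one] at hc3
    omega
  have hV : Nat.card (core 5 R) = 1 ∨ Nat.card (core 5 R) = 5 := by
    obtain ⟨k, hk⟩ := IsPGroup.iff_card.1 (core_pgroup (S := R) 5)
    have h1 : Nat.card (core 5 R) ∣ cn c := card_dvd_of_le fun v hv => mem_centralizer_singleton_iff.2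
      (SporB.core_comm Nat.prime_five Nat.prime_three (by norm_num) hv hcU)
    have h2 : k ≤ 1 := by
      by_contra h
      have h3 := (pow_dvd_pow 5 (not_le.1 h)).trans (hk ▸ h1)
      rcases raw.r3 c hc3 with h4 | h4 <;> rw [h4] at h3 <;> norm_num at h3
    rw [hk]
    interval_cases k
    · exact Or.inl rfl
    · exact Or.inr rfl
  obtain ⟨z, hz3, hzc, hz⟩ := exists_z (core_pgroup (S := R) 3)
  have hzR : z ∈ R := hR.cent hU0 (map_subtype_le _) (inv_core R Nat.prime_three) hz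
  have hzV : ∀ v ∈ core 5 R, z * v = v * z := by
    intro v hv
    by_cases h1 : v = 1
    · rw [h1, mul_one, one_mul]
    have h2 : orderOf v ∣ Nat.card (core 5 R) := orderOf_dvd_natCard _ hv
    have h3 : orderOf v ≠ 1 := fun e => h1 (orderOf_eq_one_iff.1 e)
    rcases hV with h | h
    · exact absurd (Nat.dvd_one.1 (h ▸ h2)) h3
    · have h4 : orderOf v = 5 := ((Nat.dvd_prime Nat.prime_five).1 (h ▸ h2)).resolve_left h3
      refine comm_five (by rw [← hz3, pow_orderOf_eq_one]) h4 ?_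
      rw [eq_of_le_of_card_ge (zpowers_le.2 hv) (by rw [h, Nat.card_zpowers, h4])]
      exact core_conj 5 z hzR v hv
  have hzF : z ∈ fit R := hR.mem_fit fun f hf => by
    obtain ⟨x, hx, a, ha, rfl⟩ := fit_split h35 hf
    rw [← mul_assoc, hz x hx, mul_assoc, hzV a ha, mul_assoc]
  have hzU := mem_core hzF Nat.prime_three hz3
  have hI := (inv_core R Nat.prime_three).inf (inv_core R Nat.prime_three).cz
  obtain ⟨Z, hZ⟩ : ∃ Z : Subgroup G, Z = core 3 R ⊓ centralizer (core 3 R : Set G) := ⟨_, rfl⟩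
  have hzZ : z ∈ Z := hZ ▸ mem_inf.2 ⟨hzU, fun u hu => (hz u hu).symm⟩
  have hZU : Z ≤ core 3 R := hZ ▸ inf_le_left
  rw [← hZ] at hI
  have h1 : Nat.card (core 3 R) * Nat.card Z ≤ 6561 :=
    card_mul_le' (core_pgroup 3) hZU fun a ha b hb => mem_centralizer_iff.1 (hZ ▸ hb).2 a ha
  have h2 : Nat.card Z ≤ 81 := by
    by_contra h
    have h3 := Nat.mul_le_mul ((not_le.1 h).trans_le (card_le_of_le hZU)) (not_le.1 h)
    omega
  have h3 : Nat.card R ≤ Nat.card Z * 29160 :=
    (card_le_of_conj (Z := Z) (y := z) fun s hs => hI.conj s hs z hzZ).trans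
      (Nat.mul_le_mul_left _ ((card_le_of_le inf_le_right).trans hzc.le))
  obtain ⟨P, hP⟩ := exists_gens (fit R)
  have h4 := hP.card_le (fun s => orderOf s = 3) (fun _ _ h => h) {v | v ∈ core 3 R ∧ v ≠ 1} fun s hs h v hv h1 =>
    ⟨zpowers_le.2 (mem_core (hP.mem s hs).1 Nat.prime_three h) hv, h1⟩
  have h6 := hP.card_le (fun s => ¬ orderOf s = 3) (fun s hs h => (h35 s (hP.mem s hs).1 (hP.mem s hs).2).resolve_left h)
    {v | v ∈ core 5 R ∧ v ≠ 1} fun s hs h v hv h1 =>
      ⟨zpowers_le.2 (mem_core (hP.mem s hs).1 Nat.prime_five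
        ((h35 s (hP.mem s hs).1 (hP.mem s hs).2).resolve_left h)) hv, h1⟩
  rw [ncard_ne_one] at h4 h6
  refine oddOK_of P hP.cover (fun _ => Nat.card Z * 29160) (fun s => if orderOf s = 3 then 544320 else 630000)
    (fun s _ => (meet_le_card _ _ s).trans h3) (fun s hs => ?_) ?_
  · split_ifs with h
    · exact cn_three h
    · exact h5 s ((h35 s (hP.mem s hs).1 (hP.mem s hs).2).resolve_left h)
  · rw [← Finset.mul_sum, Finset.sum_ite, Finset.sum_const, Finset.sum_const, smul_eq_mul, smul_eq_mul, cardG]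
    have h7 : (P.filter fun s => ¬ orderOf s = 3).card ≤ 1 := by
      have h8 : (P.filter fun s => ¬ orderOf s = 3).card * (5 - 1) ≤ Nat.card (core 5 R) - 1 := by convert h6
      omega
    have h8 : (P.filter fun s => orderOf s = 3).card * 2 ≤ Nat.card (core 3 R) := by
      have h9 : (P.filter fun s => orderOf s = 3).card * (3 - 1) ≤ Nat.card (core 3 R) - 1 := by convert h4
      omega
    generalize (P.filter fun s => ¬ orderOf s = 3).card = b at h7
    generalize (P.filter fun s => orderOf s = 3).card = a at h8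
    have h9 := Nat.pow_le_pow_left (h3.trans (Nat.mul_le_mul_right _ h2)) 2
    have h10 := (Nat.mul_le_mul_right (Nat.card Z) h8).trans h1
    have h11 := Nat.mul_le_mul h7 h2
    have h12 : Nat.card Z * 29160 * (a * 544320 + b * 630000) =
        a * 2 * Nat.card Z * (14580 * 544320) + b * Nat.card Z * (29160 * 630000) := by ring
    rw [h12]
    omega

end Cfsg.Agent.SB.SporD.HN
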