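import Cfsg.Agent.SB.SporD.HNF5a
import Cfsg.Agent.H839.Rad.Count
import Cfsg.Agent.H839.Rad.Transv
import Cfsg.Agent.SmallSimple.BurnsideNC

/-!
# S5765, the row `HN`: the case `F(R) = O₅(R)` (helper8)

`z` generates the centre of a Sylow 5-subgroup of `G` which contains a Sylow 5-subgroup of `R`, `Z = Ω₁(Z(F(R)))`.
Either `R` normalises `⟨z⟩`, or `|Z| = 125` and `F(R) = Z`, or `|Z| = 25` and `5 ^ 6` does not divide `|R|` (two
transvections generate a group which is not solvable).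
-/

set_option autoImplicit false

namespace Cfsg.Agent.SB.SporD.HN

open Subgroup Cfsg Cfsg.Agent.H786.FC Cfsg.Agent.SB.Mon Cfsg.Agent.SB.Spor
open Cfsg.Agent.H651.HNF (cn)

namespace F5

variable {R : Subgroup G}

theorem order_five (hF : IsPGroup 5 (fit R)) {c : G} (hc : c ∈ fit R) (hp : (orderOf c).Prime) : orderOf c = 5 := by
  have f5 : Fact (Nat.Prime 5) := ⟨by norm_num⟩
  have := finG
  obtain ⟨j, hj⟩ := IsPGroup.iff_orderOf.1 hF ⟨c, hc⟩
  rw [Subgroup.orderOf_mk] at hj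
  exact (Nat.prime_dvd_prime_iff_eq hp f5.out).1 (hp.dvd_of_dvd_pow hj.dvd)

/-- the final count -/
theorem ok_of (h5 : BoxC5) (hF : IsPGroup 5 (fit R)) {f g n k : ℕ} (hf : Nat.card (fit R) ≤ f) (hg : f ≤ 4 * g + 4)
    (hn : Nat.card R ≤ n) (X : Set G) (hX : ∀ y ∈ R, orderOf y = 5 → y ∈ X) (hk : Nat.card X ≤ k)
    (h : g * (k * 630000) + 2 * n ^ 2 < 273030912000000) : OddOK R := by
  classical
  have := finG
  obtain ⟨P, hP⟩ := exists_gens (fit R)
  have ho : ∀ s ∈ P, orderOf s = 5 := fun s hs => order_five hF (hP.mem s hs).1 (hP.mem s hs).2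
  have h1 := hP.card_le (fun _ => True) (fun s hs _ => ho s hs) {v | v ∈ fit R ∧ v ≠ 1}
    (fun s hs _ v hv h1 => ⟨zpowers_le.2 (hP.mem s hs).1 hv, h1⟩)
  rw [Finset.filter_true, ncard_ne_one] at h1
  have h2 : 0 < Nat.card (fit R) := Nat.card_pos
  refine oddOK_crude hP (g := g) (k := k) (m := 630000) (by omega) hn (fun c hc hp => ?_)
    (fun c hc hp => h5 c (order_five hF hc hp)) (by rwa [cardG])
  exact (meet_le_of_subset ⊤ R c X fun x _ hx => hX _ hx
    ((orderOf_conj' x c).trans (order_five hF hc hp))).trans hk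

/-- `R` normalises `⟨z⟩` -/
theorem caseA (h5 : BoxC5) (hF : IsPGroup 5 (fit R)) {z : G} (oz : orderOf z = 5) (hz : cn z ∣ 500000)
    (h : ∀ r ∈ R, r * z * r⁻¹ ∈ zpowers z) : OddOK R := by
  have := finG
  have f5 : Fact (Nat.Prime 5) := ⟨by norm_num⟩
  have hz' : Nat.card (centralizer ({z} : Set G)) ≤ 500000 := Nat.le_of_dvd (by norm_num) hz
  have hn : Nat.card R ≤ 5 * 500000 := (card_le_of_conj h).trans
    (Nat.mul_le_mul (by rw [Nat.card_zpowers, oz]) ((card_le_of_le inf_le_right).trans hz'))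
  have hy : ∀ y : G, orderOf y = 5 → y ^ 5 ^ 1 = 1 := fun y hy => by rw [pow_one, ← hy, pow_orderOf_eq_one]
  obtain ⟨e, he⟩ := IsPGroup.iff_card.1 hF
  rcases (pow_le he).eq_or_lt with h6 | h6
  · refine ok_of h5 hF (f := 5 ^ 6) (g := 3906) (k := 5 ^ 6) (by rw [he, h6]) (by norm_num) hn (fit R)
      (fun y hyR oy => ?_) (by rw [SetLike.coe_sort_coe, he, h6]) (by norm_num)
    have h1 : IsPGroup 5 (zpowers y) := IsPGroup.of_card (n := 1) (by rw [Nat.card_zpowers, oy, pow_one])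
    obtain ⟨e', he'⟩ := IsPGroup.iff_card.1 (h1.to_sup_of_normal_right' hF
      (zpowers_le.2 (H839.Rad.mem_normalizer_of (fit_conj y hyR))))
    have h2 : fit R = zpowers y ⊔ fit R := eq_of_le_of_card_ge le_sup_right (by
      rw [he, he', h6]
      exact Nat.pow_le_pow_right (by norm_num) (pow_le he'))
    rw [SetLike.mem_coe, h2]
    exact mem_sup_left (mem_zpowers y)
  · refine ok_of h5 hF (f := 5 ^ 5) (g := 781) (k := 500000)
      (by rw [he]; exact Nat.pow_le_pow_right (by norm_num) (by omega)) (by norm_num) hn (centralizer ({z} : Set G))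
      (fun y hyR oy => ?_) hz' (by norm_num)
    exact mem_centralizer_singleton_iff.2 (H839.Rad.comm_of_norm f5.out oz (hy y oy) (h y hyR))

/-- `F(R)` is elementary abelian of order `125` -/
theorem caseB (h5 : BoxC5) (hR : Ctx R) (hF : IsPGroup 5 (fit R)) (hab : ∀ x ∈ fit R, ∀ y ∈ fit R, x * y = y * x)
    (hp : ∀ x ∈ fit R, x ^ 5 = 1) (hc : Nat.card (fit R) = 5 ^ 3) : OddOK R := by
  have := finG
  have f5 : Fact (Nat.Prime 5) := ⟨by norm_num⟩
  have h1 := SmallSimple.BurnsideNC.relIndex_dvd_card_mulAut (fit R)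
  rw [Transfer.ElemAbAut.card_mulAut 5 3 (fun x y => Subtype.ext (hab x x.2 y y.2))
    (fun x => Subtype.ext (hp x x.2)) hc] at h1
  have h2 : Nat.card (centralizer (fit R : Set G)) ∣ 5 ^ 3 :=
    hc ▸ card_dvd_of_le fun z hz => hR.mem_fit fun f hf => (mem_centralizer_iff.1 hz f hf).symm
  have h3 := Nat.mul_dvd_mul h2 h1
  rw [card_eq_mul_relIndex (centralizer_le_normalizer _)] at h3
  have h4 : Nat.card R ∣ _ := (card_dvd_of_le fun r hr => H839.Rad.mem_normalizer_of (fit_conj r hr)).trans h3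
  have h6 := card_subgroup_dvd_card R
  rw [cardG] at h6
  have h7 : Nat.card R ≤ 6000000 := Nat.le_of_dvd (by norm_num) (by
    have h8 := Nat.dvd_gcd h4 h6
    rwa [Fin.prod_univ_three, show Nat.gcd _ _ = 6000000 by decide +kernel] at h8)
  exact ok_of h5 hF (g := 31) hc.le (by norm_num) h7 R (fun _ h _ => h) h7 (by norm_num)

/-- two transvections -/
theorem false_of_syl (hR : Ctx R) {S Z : Subgroup G} {z : G} (h : Syl S z) (hS : S ≤ R) (hZ : Z ≤ S)
    (hn : ∀ r ∈ R, ∀ x ∈ Z, r * x * r⁻¹ ∈ Z) (hz : z ∈ Z) (hc : Nat.card Z ≤ 25) {r : G} (hr : r ∈ R)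
    (h1 : r * z * r⁻¹ ∉ zpowers z) : False := by
  have := finG
  have key : ∀ w ∈ Z, w ∉ zpowers z → ∃ x ∈ S, ∃ j : ℤ, ¬ ((5 : ℕ) : ℤ) ∣ j ∧ x * w * x⁻¹ = w * z ^ j := by
    intro w hw h2
    refine (h.alt w (hZ hw) h2).resolve_right fun h3 => ?_
    have h4 := (card_le_of_conj fun s hs => hn s (hS hs) w hw).trans (Nat.mul_le_mul hc h3)
    rw [h.card] at h4
    omega
  have o1 : orderOf (r * z * r⁻¹) = 5 := by rw [← MulAut.conj_apply, MulEquiv.orderOf_eq, h.oz]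
  have h2 : r⁻¹ * z * r⁻¹⁻¹ ∉ zpowers z := by
    intro h2
    obtain ⟨j, hj⟩ := mem_zpowers_iff.1 h2
    have h3 : z ∈ zpowers (r * z * r⁻¹) := mem_zpowers_iff.2 ⟨j, by rw [conj_zpow, hj]; group⟩
    have h4 : zpowers z = zpowers (r * z * r⁻¹) :=
      eq_of_le_of_card_ge (zpowers_le.2 h3) (by rw [Nat.card_zpowers, Nat.card_zpowers, o1, h.oz])
    exact h1 (h4 ▸ mem_zpowers _)
  obtain ⟨x, hx, j, hj, e1⟩ := key _ (hn r hr z hz) h1
  obtain ⟨y, hy, k, hk, e2⟩ := key _ (hn r⁻¹ (inv_mem hr) z hz) h2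
  have hq : r * y * r⁻¹ ∈ R := mul_mem (mul_mem hr (hS hy)) (inv_mem hr)
  refine H839.Rad.not_solvable_pair (by norm_num) le_rfl (q := r * y * r⁻¹) h.oz o1
    (h.cz _ (hZ (hn r hr z hz))).symm h1 hj hk (h.cz x hx) e1 ?_ ?_ (hR.solv_of_le ((closure_le _).2 ?_))
  · calc r * y * r⁻¹ * (r * z * r⁻¹) = r * (y * z) * r⁻¹ := by group
      _ = _ := by rw [h.cz y hy]; group
  · calc r * y * r⁻¹ * z * (r * y * r⁻¹)⁻¹ = r * (y * (r⁻¹ * z * r⁻¹⁻¹) * y⁻¹) * r⁻¹ := by group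
      _ = _ := by rw [e2, conj_zpow]; group
  · rintro _ (rfl | rfl)
    · exact hS hx
    · exact mul_mem (mul_mem hq (hS hx)) (inv_mem hq)

theorem le_of_dvd {c : ℕ} (h : c ∣ 500000) (h6 : ¬ 5 ^ 6 ∣ c) : c ≤ 100000 := by
  obtain ⟨a, b, ha, hb, rfl⟩ := (Nat.dvd_mul (k := c) (m := 32) (n := 5 ^ 6)).1 h
  obtain ⟨j, hj, rfl⟩ := (Nat.dvd_prime_pow (by norm_num : Nat.Prime 5)).1 hb
  have h1 : j ≤ 5 := by
    by_contra h1
    exact h6 ((pow_dvd_pow 5 (by omega)).mul_left a)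
  exact Nat.mul_le_mul (Nat.le_of_dvd (by norm_num) ha) (Nat.pow_le_pow_right (by norm_num : 0 < 5) h1)

end F5

open F5 in
/-- **The case `F(R) = O₅(R)`.** -/
theorem boxF5_of (h5 : BoxC5) (hW : BoxCW) : BoxF5 := by
  intro R hR hF
  have := finG
  have f5 : Fact (Nat.Prime 5) := ⟨by norm_num⟩
  obtain ⟨T, hT⟩ := (hF.comap_subtype (K := R)).exists_le_sylow
  obtain ⟨S, z, hS, hTS⟩ := exists_syl (T.isPGroup'.map R.subtype)
  have hFS : fit R ≤ S := fun f hf => hTS ⟨⟨f, fit_le R hf⟩, hT hf, rfl⟩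
  have hzF : z ∈ fit R := hR.mem_fit fun f hf => (hS.cz f (hFS hf)).symm
  have hz : cn z ∣ 500000 :=
    hW z hS.oz (hS.card ▸ card_dvd_of_le fun s hs => mem_centralizer_singleton_iff.2 (hS.cz s hs))
  by_cases hA : ∀ r ∈ R, r * z * r⁻¹ ∈ zpowers z
  · exact caseA h5 hF hS.oz hz hA
  push Not at hA
  obtain ⟨r, hr, h1⟩ := hA
  have hab : ∀ x ∈ fit R ⊓ centralizer (fit R : Set G), ∀ y ∈ fit R ⊓ centralizer (fit R : Set G), x * y = y * x :=
    fun x hx y hy => mem_centralizer_iff.1 hy.2 x hx.1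
  obtain ⟨Z, hZ⟩ : ∃ Z, Z = omg _ hab 5 := ⟨_, rfl⟩
  have hn : ∀ s ∈ R, ∀ x ∈ Z, s * x * s⁻¹ ∈ Z := hZ ▸ (((inv_fit R).inf (inv_fit R).cz).omg hab 5).conj
  have hZ' : ∀ x ∈ Z, x ∈ fit R ⊓ centralizer (fit R : Set G) ∧ x ^ 5 = 1 := fun x hx => mem_omg.1 (hZ ▸ hx)
  have hZF : Z ≤ fit R := fun x hx => (hZ' x hx).1.1
  have hZc : ∀ x ∈ Z, ∀ f ∈ fit R, f * x = x * f := fun x hx => mem_centralizer_iff.1 (hZ' x hx).1.2
  have hZp : ∀ x ∈ Z, x ^ 5 = 1 := fun x hx => (hZ' x hx).2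
  have hzZ : z ∈ Z := hZ ▸ mem_omg.2 ⟨⟨hzF, mem_centralizer_iff.2 fun f hf => hS.cz f (hFS hf)⟩,
    by rw [← hS.oz, pow_orderOf_eq_one]⟩
  obtain ⟨d, hd⟩ := IsPGroup.iff_card.1 (hF.to_le hZF)
  by_cases h25 : Nat.card Z ≤ 25
  · by_cases h6 : 5 ^ 6 ∣ Nat.card R
    · have h2 : (T : Subgroup R).map R.subtype = S := eq_of_le_of_card_ge hTS (by
        rw [hS.card, card_map_of_injective R.subtype_injective]
        exact Nat.le_of_dvd Nat.card_pos (T.pow_dvd_card_of_pow_dvd_card h6))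
      exact (false_of_syl hR hS (h2 ▸ map_subtype_le _) (hZF.trans hFS) hn hzZ h25 hr h1).elim
    · obtain ⟨e, he⟩ := IsPGroup.iff_card.1 hF
      have h2 : e ≤ 4 := by
        by_contra h2
        have h3 : e = 5 := by
          by_contra h3
          exact h6 ((pow_dvd_pow 5 (by omega)).trans (he ▸ card_dvd_of_le (fit_le R)))
        rw [h3] at he
        refine h6 ((Sylow.prime_pow_dvd_card_normalizer (by rw [cardG]; norm_num) he).trans
          (card_dvd_of_le fun g hg => ?_))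
        exact hR.norm _ hR.fit_ne (fit_le R) (inv_fit R) g fun x hx => (mem_normalizer_iff.1 hg x).1 hx
      have h3 : Nat.card R ≤ 25 * 100000 := (card_le_of_conj fun s hs => hn s hs z hzZ).trans
        (Nat.mul_le_mul h25 (le_of_dvd ((card_dvd_of_le inf_le_right).trans hz)
          fun h => h6 (h.trans (card_dvd_of_le inf_le_left))))
      exact ok_of h5 hF (f := 5 ^ 4) (g := 156) (by rw [he]; exact Nat.pow_le_pow_right (by norm_num) h2)
        (by norm_num) h3 R (fun _ h _ => h) h3 (by norm_num)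
  · have h125 : 5 ^ 3 ≤ Nat.card Z := by
      rw [hd] at h25 ⊢
      exact Nat.pow_le_pow_right (by norm_num) ((Nat.pow_lt_pow_iff_right (by norm_num : 1 < 5)).1 (not_le.1 h25))
    have hFZ : fit R ≤ Z := by
      intro f hf
      have h2 : Z ⊔ zpowers f ≤ fit R := sup_le hZF (zpowers_le.2 hf)
      have h3 : Z ⊔ zpowers f ≤ centralizer ((Z ⊔ zpowers f : Subgroup G) : Set G) := by
        have h3 : Z ⊔ zpowers f ≤ centralizer ({f} : Set G) :=
          sup_le (fun w hw => mem_centralizer_singleton_iff.2 (hZc w hw f hf).symm)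
            (zpowers_le.2 (mem_centralizer_singleton_iff.2 rfl))
        refine sup_le (fun w hw => mem_centralizer_iff.2 fun y hy => hZc w hw y (h2 hy)) (zpowers_le.2 ?_)
        exact mem_centralizer_iff.2 fun y hy => mem_centralizer_singleton_iff.1 (h3 hy)
      have h4 := card_ab (hF.to_le h2) fun x hx y hy => mem_centralizer_iff.1 (h3 hy) x hx
      rw [eq_of_le_of_card_ge (le_sup_left : Z ≤ Z ⊔ zpowers f) (h4.trans h125)]
      exact mem_sup_right (mem_zpowers f)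
    have hab' : ∀ x ∈ fit R, ∀ y ∈ fit R, x * y = y * x := fun x hx y hy => hZc y (hFZ hy) x hx
    exact caseB h5 hR hF hab' (fun x hx => hZp x (hFZ hx))
      (le_antisymm (card_ab hF hab') (h125.trans (card_le_of_le hZF)))

end Cfsg.Agent.SB.SporD.HN
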