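import Cfsg.Agent.SB.SporD.HNQ
import Cfsg.Agent.SB.SporD.HNC5
import Cfsg.Agent.SB.SporD.HNF3
import Cfsg.Agent.SB.SporD.HNF5

/-!
# S5765, the row `HN` (helper26, helper8, helper72, helper87)
-/

set_option autoImplicit false

namespace Cfsg.Agent.SB.SporD

/-- **The row of the Harada-Norton group.** -/
theorem row_HN (K : Type*) [Group K] (h : Cfsg.Spor.IsoHN K) : Row K :=
  HN.row_of_boxes HN.boxC5 (HN.boxF5_of HN.boxC5 HN.boxCW) (HN.boxF3_of HN.boxC5) (HN.boxTwo_of HN.boxC5) K h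

end Cfsg.Agent.SB.SporD
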