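import Cfsg.Agent.SB.SporD.Gen
import Cfsg.Agent.SB.Mon.BFive
import Cfsg.Agent.SP.NTh.Base
import Cfsg.Agent.SP.NTh.Two.Main
import Cfsg.Agent.Th.Final
import Cfsg.Agent.S2083

/-!
# S5765, the row `Th` (helper26)

* `O₂(S) ≠ 1`: `S` fixes an involution (base of size two) or lies in a Dempwolff group (base of size three).
* `O_p(S) ≠ 1`, `p ≥ 5`: `S` is small.
* `F(S) = O₃(S)`: `W = Z(F(S))` contains a 3-central element, `|W| ≤ 3 ^ 5`.  If `|W| ≤ 81` count the involutions, if
  `|W| = 243` then `F(S) = W`.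
-/

set_option autoImplicit false

namespace Cfsg.Agent.SB.SporD.Th

open Subgroup Cfsg Cfsg.Agent.H786.FC Cfsg.Agent.SB.Mon
open Cfsg.Agent.SP.NTh (Th cardTh xA xB xC cls3 c2 c5 c7 c13 c19 c31 cA cB cC card_cent_isConj InLoc isB_u1 oB
  isB_inv isConj_order)
open Cfsg.Agent.H777.Th3 Cfsg.Agent.H777.Th3.Dat

theorem prime_dvd {p : ℕ} (hp : p.Prime) (h : p ∣ 90745943887872000) :
    p = 2 ∨ p = 3 ∨ p = 5 ∨ p = 7 ∨ p = 13 ∨ p = 19 ∨ p = 31 := by
  have e : 90745943887872000 = 2 ^ 15 * (3 ^ 10 * (5 ^ 3 * (7 ^ 2 * (13 ^ 1 * (19 ^ 1 * 31 ^ 1))))) := by norm_num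
  have k : ∀ {q n : ℕ}, q.Prime → p ∣ q ^ n → p = q := fun hq h =>
    (Nat.prime_dvd_prime_iff_eq hp hq).1 (hp.dvd_of_dvd_pow h)
  rw [e] at h
  simp only [hp.dvd_mul] at h
  rcases h with h | h | h | h | h | h | h
  · exact Or.inl (k (by norm_num) h)
  · exact Or.inr (Or.inl (k (by norm_num) h))
  · exact Or.inr (Or.inr (Or.inl (k (by norm_num) h)))
  · exact Or.inr (Or.inr (Or.inr (Or.inl (k (by norm_num) h))))
  · exact Or.inr (Or.inr (Or.inr (Or.inr (Or.inl (k (by norm_num) h)))))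
  · exact Or.inr (Or.inr (Or.inr (Or.inr (Or.inr (Or.inl (k (by norm_num) h))))))
  · exact Or.inr (Or.inr (Or.inr (Or.inr (Or.inr (Or.inr (k (by norm_num) h))))))

theorem cent_five {c : Th} (hp : (orderOf c).Prime) (h5 : 5 ≤ orderOf c) :
    Nat.card (centralizer ({c} : Set Th)) ≤ 3000 := by
  have h := orderOf_dvd_natCard c
  rw [cardTh] at h
  rcases prime_dvd hp h with h | h | h | h | h | h | h
  · omega
  · omega
  · rw [c5 h]
  · rw [c7 h]; norm_num
  · rw [c13 h]; norm_num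
  · rw [c19 h]; norm_num
  · rw [c31 h]; norm_num

theorem cent_B {c : Th} (h : IsConj xB c) : Nat.card (centralizer ({c} : Set Th)) ≤ 472392 :=
  card_cent_isConj h ▸ Nat.le_of_dvd (by norm_num) cB

theorem cent_three {c : Th} (h : orderOf c = 3) : Nat.card (centralizer ({c} : Set Th)) ≤ 12737088 := by
  rcases cls3 h with h | h | h
  · exact card_cent_isConj h ▸ Nat.le_of_dvd (by norm_num) cA
  · exact (cent_B h).trans (by norm_num)
  · exact card_cent_isConj h ▸ (Nat.le_of_dvd (by norm_num) cC).trans (by norm_num)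

theorem cent_odd {c : Th} (hp : (orderOf c).Prime) (h2 : orderOf c ≠ 2) :
    Nat.card (centralizer ({c} : Set Th)) ≤ 12737088 := by
  rcases prime_cases hp with h | h | h
  · exact absurd h h2
  · exact cent_three h
  · exact (cent_five hp h).trans (by norm_num)

/-- few involutions -/
theorem seven_of {S : Subgroup Th} (ha : ({c : Th | orderOf c = 2} ∩ S).ncard ≤ 13300000)
    (hn : Nat.card S ≤ 38300000) : Seven ⊤ S := by
  have := SP.NTh.finTh
  refine seven_two {c : Th | orderOf c = 2} (fun c hc x _ => (orderOf_conj' x c).trans hc) (a := 13300000)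
    (n := 38300000) (m₁ := 92897280) (m₂ := 12737088) (by rwa [Nat.card_coe_set_eq]) hn (fun c _ hc => ?_)
    (fun c _ hp hc => ?_) ?_
  · rw [top_inf_eq, c2 hc]
  · rw [top_inf_eq]
    exact cent_odd hp hc
  · rw [card_top, cardTh]
    norm_num

theorem as : AS (⊤ : Subgroup Th) :=
  haveI := Cfsg.Agent.Th.Final.isSimple
  as_top (nc_of_card (by rw [cardTh]; norm_num))

open Cfsg.Agent.SP.NTh.Two Cfsg.Agent.H894.ThLine in
theorem good_two {S : Subgroup Th} (hS : Group.IsSolvable S) (h : InLoc 2 S) : Good ⊤ S := by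
  have := SP.NTh.finTh
  rcases two_local h with ⟨w, hw, hw2, hA⟩ | ⟨g, hA⟩
  · obtain ⟨t, ht⟩ := base_inv hw hw2
    exact Or.inl (fitReg_of_one (mem_top t) fun s hs hst => ht s (hA s hs) (hA _ hst))
  · obtain ⟨s, s', hs, hs'⟩ := small
    refine as.good_of_four (by rw [card_top, cardTh]; norm_num) hS
      (four_of_two (mem_top (g * s * g⁻¹)) (mem_top (g * s' * g⁻¹)) fun x hx h1 h2 => ?_)
    have key : ∀ (t : Th) (n : ℕ), (∀ x ∈ DD, t⁻¹ * x * t ∈ DD → orderOf x ∣ n) →
        (g * t * g⁻¹)⁻¹ * x * (g * t * g⁻¹) ∈ S → orderOf x ∣ n := by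
      intro t n ht hxt
      have h1 := hA _ hxt
      have e : g⁻¹ * ((g * t * g⁻¹)⁻¹ * x * (g * t * g⁻¹)) * g = t⁻¹ * (g⁻¹ * x * g) * t := by group
      rw [e] at h1
      have h2 := ht _ (hA x hx) h1
      rwa [orderOf_conj'] at h2
    exact orderOf_eq_one_iff.1 (Nat.dvd_one.1 (Nat.dvd_gcd (key s 3 hs h1) (key s' 5 hs' h2)))

/-- abelian 3-subgroups -/
theorem card_ab {W : Subgroup Th} (hW : IsPGroup 3 W) (hab : ∀ x ∈ W, ∀ y ∈ W, x * y = y * x) : Nat.card W ≤ 243 := by
  obtain ⟨g, hg⟩ := H502.TO.exists_conj hW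
  rw [← card_map_of_injective (f := (MulAut.conj g).toMonoidHom) (MulAut.conj g).injective]
  refine abelian_Sg th_u1_ne (D := thDat) ?_ ?_
  · rintro _ ⟨r, hr, rfl⟩
    exact hg r hr
  · rintro _ ⟨x, hx, rfl⟩ _ ⟨y, hy, rfl⟩
    rw [← map_mul, hab x hx y hy, map_mul]

/-- a 3-subgroup centralizes an element of the class 3B -/
theorem exists_B {F : Subgroup Th} (hF : IsPGroup 3 F) : ∃ z, IsConj xB z ∧ ∀ f ∈ F, z * f = f * z := by
  obtain ⟨g, hg⟩ := H502.TO.exists_conj hF
  refine ⟨g⁻¹ * thDat.u1 * g, isB_u1.trans (isConj_iff.2 ⟨g⁻¹, by rw [inv_inv]⟩), fun f hf => ?_⟩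
  have h := conj_u1 (hg f hf)
  calc g⁻¹ * thDat.u1 * g * f = f * g⁻¹ * ((g * f * g⁻¹)⁻¹ * thDat.u1 * (g * f * g⁻¹)) * g := by group
    _ = _ := by rw [h]; group

theorem num (b b' u u' : ℕ) (h1 : u * (3 - 1) ≤ b) (h2 : u' * (3 - 1) ≤ b') (h3 : b + b' ≤ 242) :
    b * 472392 * (u * 472392 + u' * 12737088) < 90745943887872000 := by
  have h4 : 2 * (u * 472392 + u' * 12737088) + b * 12264696 ≤ 242 * 12737088 := by omega
  nlinarith [sq_nonneg ((b : ℤ) - 126)]

theorem good_three {S : Subgroup Th} (hS : Group.IsSolvable S) (hm : MaxInv ⊤ S) (hF : IsPGroup 3 (fit S)) :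
    Good ⊤ S := by
  classical
  have := SP.NTh.finTh
  have f3 : Fact (Nat.Prime 3) := ⟨Nat.prime_three⟩
  obtain ⟨z, hzB, hz⟩ := exists_B hF
  obtain ⟨X, hXS, hX0, -, -, -, -, hXF, -⟩ := hm.exists_min as hS
  have hF0 : fit S ≠ ⊥ := fun hb => hX0 (eq_bot_iff.2 fun v hv => by
    rw [← hb]
    exact ⟨⟨v, (hXS hv).1⟩, hXF v (hXS hv).1 hv, rfl⟩)
  have hzS : z ∈ S := hm.mem_of_centralizes as hF0 (fun hle => as.not_le hS (hle.trans (map_subtype_le _)))
    fit_conj (mem_top z) hz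
  have hzF := mem_fit_of_cent hS hzS hz
  obtain ⟨W, hW⟩ : ∃ W : Subgroup Th, W = fit S ⊓ centralizer (fit S : Set Th) := ⟨_, rfl⟩
  have hWF : W ≤ fit S := hW ▸ inf_le_left
  have hWc : ∀ w ∈ W, ∀ f ∈ fit S, f * w = w * f := fun w hw f hf => mem_centralizer_iff.1 (hW ▸ hw).2 f hf
  have hWn : ∀ s ∈ S, ∀ w ∈ W, s * w * s⁻¹ ∈ W := by
    intro s hs w hw
    rw [hW]
    refine mem_inf.2 ⟨fit_conj s hs w (hWF hw), fun f hf => ?_⟩
    have h1 := hWc w hw _ (fit_conj s⁻¹ (inv_mem hs) f hf)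
    calc f * (s * w * s⁻¹) = s * (s⁻¹ * f * s⁻¹⁻¹ * w) * s⁻¹ := by group
      _ = _ := by rw [h1]; group
  have hzW : z ∈ W := hW ▸ mem_inf.2 ⟨hzF, fun f hf => (hz f hf).symm⟩
  have hab : ∀ x ∈ W, ∀ y ∈ W, x * y = y * x := fun x hx y hy => hWc y hy x (hWF hx)
  have hW3 : IsPGroup 3 W := hF.to_le hWF
  have hcz : Nat.card ↥(S ⊓ centralizer {z}) ≤ 472392 := (card_le_of_le inf_le_right).trans (cent_B hzB)
  obtain ⟨k, hk⟩ := IsPGroup.iff_card.1 hW3
  have h243 := card_ab hW3 hab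
  by_cases h81 : Nat.card W ≤ 81
  · have h1 : Nat.card S ≤ 81 * 472392 :=
      (card_le_of_conj (Z := W) (y := z) fun s hs => hWn s hs z hzW).trans (Nat.mul_le_mul h81 hcz)
    have h2 := card_inv_le (hWF.trans (fit_le S)) hWn hab (by rw [hk]; exact Odd.pow (by decide)) hzW
    have h3 := cent_B hzB
    exact Or.inr (seven_of (by omega) (by omega))
  · left
    have hk5 : k = 5 := by
      rw [hk] at h81 h243
      have h1 : k ≤ 5 := (Nat.pow_le_pow_iff_right (by norm_num : 1 < 3)).1 h243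
      have h2 : 4 < k := (Nat.pow_lt_pow_iff_right (by norm_num : 1 < 3)).1 (not_le.1 h81)
      omega
    have hFW : fit S ≤ W := by
      intro f hf
      have h1 : W ⊔ zpowers f ≤ fit S := sup_le hWF (zpowers_le.2 hf)
      have h2 : W ⊔ zpowers f ≤ centralizer ((W ⊔ zpowers f : Subgroup Th) : Set Th) := by
        have h3 : W ⊔ zpowers f ≤ centralizer ({f} : Set Th) :=
          sup_le (fun w hw => mem_centralizer_singleton_iff.2 (hWc w hw f hf).symm)
            (zpowers_le.2 (mem_centralizer_singleton_iff.2 rfl))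
        refine sup_le (fun w hw => mem_centralizer_iff.2 fun y hy => hWc w hw y (h1 hy)) (zpowers_le.2 ?_)
        exact mem_centralizer_iff.2 fun y hy => mem_centralizer_singleton_iff.1 (h3 hy)
      have h4 := card_ab (hF.to_le h1) fun x hx y hy => mem_centralizer_iff.1 (h2 hy) x hx
      have h5 : W = W ⊔ zpowers f := eq_of_le_of_card_ge le_sup_left (by rw [hk, hk5]; exact h4)
      rw [h5]
      exact mem_sup_right (mem_zpowers f)
    obtain ⟨P, hP⟩ := exists_gens (fit S)
    have ho : ∀ s ∈ P, orderOf s = 3 := by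
      intro s hs
      obtain ⟨j, hj⟩ := IsPGroup.iff_orderOf.1 hF ⟨s, (hP.mem s hs).1⟩
      rw [Subgroup.orderOf_mk] at hj
      exact (Nat.prime_dvd_prime_iff_eq (hP.mem s hs).2 Nat.prime_three).1
        ((hP.mem s hs).2.dvd_of_dvd_pow hj.dvd)
    have hgen : ∀ s ∈ P, ∀ v ∈ zpowers s, v ≠ 1 → v = s ∨ v = s⁻¹ := by
      intro s hs v hv h1
      obtain ⟨i, hi, rfl⟩ := Finset.mem_image.1 ((mem_zpowers_iff_mem_range_orderOf).1 hv)
      rw [ho s hs, Finset.mem_range] at hi
      interval_cases i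
      · exact absurd (pow_zero s) h1
      · exact Or.inl (pow_one s)
      · refine Or.inr (eq_inv_of_mul_eq_one_left ?_)
        have h2 := pow_orderOf_eq_one s
        rwa [ho s hs, pow_succ] at h2
    let B : Set Th := {v | v ∈ W ∧ IsConj xB v}
    let B' : Set Th := {v | (v ∈ W ∧ v ≠ 1) ∧ ¬ IsConj xB v}
    have hB := hP.card_le (fun s => IsConj xB s) (fun s hs _ => ho s hs) B (fun s hs hb v hv h1 => by
      refine ⟨zpowers_le.2 (hFW (hP.mem s hs).1) hv, ?_⟩
      rcases hgen s hs v hv h1 with rfl | rfl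
      · exact hb
      · exact isB_inv hb)
    have hB' := hP.card_le (fun s => ¬ IsConj xB s) (fun s hs _ => ho s hs) B' (fun s hs hb v hv h1 => by
      refine ⟨⟨zpowers_le.2 (hFW (hP.mem s hs).1) hv, h1⟩, ?_⟩
      rcases hgen s hs v hv h1 with rfl | rfl
      · exact hb
      · exact fun h => hb (inv_inv s ▸ isB_inv h))
    have hBB : B.ncard + B'.ncard ≤ 242 := by
      rw [← Set.ncard_union_eq (Set.disjoint_left.2 fun v h h' => h'.2 h.2) (Set.toFinite _) (Set.toFinite _)]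
      refine le_trans (Set.ncard_le_ncard (t := {v | v ∈ W ∧ v ≠ 1}) ?_ (Set.toFinite _)) ?_
      · rintro v (h | h)
        · refine ⟨h.1, fun e => ?_⟩
          have h1 := isConj_order h.2
          rw [e, orderOf_one, oB] at h1
          omega
        · exact h.1
      · rw [ncard_ne_one]; omega
    have hSb : Nat.card S ≤ B.ncard * 472392 :=
      (card_le_orbit (Z := B) (y := z) fun s hs => ⟨hWn s hs z hzW, hzB.trans (isConj_iff.2 ⟨s, rfl⟩)⟩).trans
        (Nat.mul_le_mul_left _ hcz)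
    refine fitReg_iff.2 (exists_good_nat P hP.cover (fun _ => B.ncard * 472392)
      (fun c => if IsConj xB c then 472392 else 12737088) (fun c _ => (meet_le_card _ _ c).trans hSb)
      (fun c hc => ?_) ?_)
    · rw [top_inf_eq]
      split_ifs with h
      · exact cent_B h
      · exact cent_three (ho c hc)
    · rw [← Finset.mul_sum, Finset.sum_ite, Finset.sum_const, Finset.sum_const, smul_eq_mul, smul_eq_mul, card_top,
        cardTh]
      exact num _ _ _ _ hB (by convert hB') hBB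

theorem rowIn : RowIn (⊤ : Subgroup Th) := by
  intro S hS hm
  have := SP.NTh.finTh
  by_cases h2 : ∃ c ∈ fit S, orderOf c = 2
  · obtain ⟨c, hc, ho⟩ := h2
    refine good_two hS ⟨core 2 S, fun hb => ?_, core_pgroup 2, le_normalizer_of_conj (core_conj 2)⟩
    have h1 := mem_core hc Nat.prime_two ho
    rw [hb, mem_bot] at h1
    rw [h1, orderOf_one] at ho
    omega
  by_cases h5 : ∃ c ∈ fit S, (orderOf c).Prime ∧ 5 ≤ orderOf c
  · obtain ⟨c, hc, hp, h5⟩ := h5
    have fp : Fact (orderOf c).Prime := ⟨hp⟩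
    have hc1 := mem_core hc hp rfl
    obtain ⟨k, hk⟩ := IsPGroup.iff_card.1 (core_pgroup (S := S) (orderOf c))
    have hX : Nat.card (core (orderOf c) S) ≤ 125 := by
      have h1 := card_subgroup_dvd_card (core (orderOf c) S)
      have h3 := orderOf_dvd_natCard c
      rw [cardTh] at h1 h3
      rw [hk] at h1 ⊢
      have key : ∀ {q n : ℕ}, orderOf c = q → 1 < q → ¬ q ^ (n + 1) ∣ 90745943887872000 → q ^ n ≤ 125 →
          orderOf c ^ k ≤ 125 := by
        intro q n e h6 h7 h8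
        rw [e] at h1 ⊢
        refine le_trans (Nat.pow_le_pow_right h6.le ?_) h8
        by_contra hcon
        exact h7 ((pow_dvd_pow q (by omega)).trans h1)
      rcases prime_dvd hp h3 with h | h | h | h | h | h | h
      · omega
      · omega
      · exact key (n := 3) h (by norm_num) (by norm_num) (by norm_num)
      · exact key (n := 2) h (by norm_num) (by norm_num) (by norm_num)
      · exact key (n := 1) h (by norm_num) (by norm_num) (by norm_num)
      · exact key (n := 1) h (by norm_num) (by norm_num) (by norm_num)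
      · exact key (n := 1) h (by norm_num) (by norm_num) (by norm_num)
    have h1 : Nat.card S ≤ 125 * 3000 :=
      (card_le_of_conj (Z := core (orderOf c) S) (y := c) fun s hs => core_conj _ s hs c hc1).trans
        (Nat.mul_le_mul hX ((card_le_of_le inf_le_right).trans (cent_five hp h5)))
    have h3 : ({c : Th | orderOf c = 2} ∩ S).ncard ≤ Nat.card S := by
      rw [← SetLike.coe_sort_coe, Nat.card_coe_set_eq]
      exact Set.ncard_le_ncard Set.inter_subset_right (Set.toFinite _)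
    exact Or.inr (seven_of (by omega) (by omega))
  · have f3 : Fact (Nat.Prime 3) := ⟨Nat.prime_three⟩
    refine good_three hS hm (IsPGroup.iff_card.2 ⟨_, Nat.eq_prime_pow_of_unique_prime_dvd Nat.card_pos.ne'
      fun {q} hq hd => ?_⟩)
    have : Fact q.Prime := ⟨hq⟩
    obtain ⟨y, hy⟩ := exists_prime_orderOf_dvd_card' _ hd
    have hy' : orderOf (y : Th) = q := by rw [Subgroup.orderOf_coe, hy]
    rcases prime_cases hq with h1 | h1 | h1
    · exact absurd ⟨y, y.2, hy'.trans h1⟩ h2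
    · exact h1
    · exact absurd ⟨y, y.2, hy' ▸ hq, hy' ▸ h1⟩ h5

end Cfsg.Agent.SB.SporD.Th

namespace Cfsg.Agent.SB.SporD

open Subgroup Cfsg Cfsg.Agent.H786.FC Cfsg.Agent.SB.Mon

/-- **The row of the Thompson group.** -/
theorem row_Th (K : Type*) [Group K] (h : Spor.IsoTh K) : Row K := by
  obtain ⟨e⟩ := h
  refine Row.of_equiv e (row_iff_rowIn.2 ?_)
  have := Cfsg.Agent.Th.Final.isSimple
  have hG : ¬ IsMulCommutative Spor.Th := nc_of_card (by rw [SP.NTh.cardTh]; norm_num)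
  have h1 : InnG Spor.Th = ⊤ := index_eq_one.1 S2083.result
  let e : Spor.Th ≃* MulAut Spor.Th := MulEquiv.ofBijective MulAut.conj ⟨conj_injective hG, MonoidHom.range_eq_top.1 h1⟩
  apply RowIn.of_map e.symm.toMonoidHom e.symm.injective
  rw [h1, map_top_of_surjective _ e.symm.surjective]
  exact Th.rowIn

end Cfsg.Agent.SB.SporD
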