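import Cfsg.Agent.SB.SporD.Gen
import Cfsg.Agent.SB.SporB.BAbs
import Cfsg.Agent.SB.Spor.Crit

/-!
# S5765, groups with `|Out K| ≤ 2`: the situation inside `K` (helper26)

`R = S ∩ K`.  `Inv R X` : `X` is invariant under the automorphisms of `K` which stabilise `R`.  `Ctx R` : `R` is
solvable and contains the normalizers of the non-trivial invariant subgroups.  `row_of_ctx` : the translation.
-/

set_option autoImplicit false

namespace Cfsg.Agent.SB.SporD

open Subgroup Cfsg Cfsg.Agent.H786.FC Cfsg.Agent.SB.Mon Cfsg.Agent.SB.Spor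

variable {K : Type*} [Group K] {R X Y : Subgroup K}

/-- `X` is invariant under all automorphisms of `K` which stabilise `R` -/
def Inv (R X : Subgroup K) : Prop := ∀ α : MulAut K, (∀ r ∈ R, α r ∈ R) → ∀ x ∈ X, α x ∈ X

/-- the situation -/
structure Ctx (R : Subgroup K) : Prop where
  sol : Group.IsSolvable R
  ne : R ≠ ⊥
  norm : ∀ X : Subgroup K, X ≠ ⊥ → X ≤ R → Inv R X → ∀ g : K, (∀ x ∈ X, g * x * g⁻¹ ∈ X) → g ∈ R

/-- the target if the Fitting subgroup has odd order -/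
def OddOK (R : Subgroup K) : Prop :=
  ∃ P : Finset K, (∀ v ∈ fit R, v ≠ 1 → ∃ s ∈ P, s ∈ zpowers v) ∧ ∑ c ∈ P, hc R c + 2 * Nat.card R ^ 2 < Nat.card K

/-- the target in general -/
def TwoOK (R : Subgroup K) : Prop :=
  Four ⊤ R ∧ (∀ u : K, u ≠ 1 → 2 * hc R u ≤ Nat.card K) ∧ 49 * Nat.card R ≤ Nat.card K

theorem inv_self (R : Subgroup K) : Inv R R := fun _ h => h

theorem Inv.conj (h : Inv R X) : ∀ r ∈ R, ∀ x ∈ X, r * x * r⁻¹ ∈ X := fun r hr =>
  h (MulAut.conj r) fun _ hs => mul_mem (mul_mem hr hs) (inv_mem hr)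

theorem Inv.inf (h : Inv R X) (h' : Inv R Y) : Inv R (X ⊓ Y) := fun α hα x hx => ⟨h α hα x hx.1, h' α hα x hx.2⟩

/-- the subgroup generated by an invariant set -/
theorem inv_closure {s : Set K} (h : ∀ α : MulAut K, (∀ r ∈ R, α r ∈ R) → ∀ x ∈ s, α x ∈ s) : Inv R (closure s) := by
  intro α hα
  have : closure s ≤ (closure s).comap α.toMonoidHom := (closure_le _).2 fun x hx => subset_closure (h α hα x hx)
  exact fun x hx => this hx

theorem Ctx.cent (h : Ctx R) (h0 : X ≠ ⊥) (hle : X ≤ R) (hX : Inv R X) {g : K} (hg : ∀ x ∈ X, g * x = x * g) :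
    g ∈ R :=
  h.norm X h0 hle hX g fun x hx => by rwa [hg x hx, mul_inv_cancel_right]

variable [Finite K]

theorem stab_inv {α : MulAut K} (hα : ∀ x ∈ R, α x ∈ R) : ∀ x ∈ R, α⁻¹ x ∈ R := by
  intro x hx
  have h1 : Function.Surjective fun y : R => (⟨α y, hα y y.2⟩ : R) :=
    Finite.surjective_of_injective fun a b h => Subtype.ext (α.injective (congrArg Subtype.val h))
  obtain ⟨y, hy⟩ := h1 ⟨x, hx⟩
  have h2 : α y = x := congrArg Subtype.val hy
  rw [← h2, MulAut.inv_apply_self]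
  exact y.2

theorem Inv.cz (h : Inv R X) : Inv R (centralizer (X : Set K)) := fun α hα g hg => mem_centralizer_iff.2 fun x hx => by
  have h1 := congrArg α (mem_centralizer_iff.1 hg _ (h α⁻¹ (stab_inv hα) x hx))
  simpa using h1

theorem Inv.fit (h : Inv R X) : Inv R (fit X) := by
  rintro α hα _ ⟨y, hy, rfl⟩
  let e : X ≃* X :=
    { toFun := fun a => ⟨α a, h α hα a a.2⟩
      invFun := fun a => ⟨α⁻¹ a, h α⁻¹ (stab_inv hα) a a.2⟩
      left_inv := fun a => Subtype.ext (by simp)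
      right_inv := fun a => Subtype.ext (by simp)
      map_mul' := fun a b => Subtype.ext (by simp) }
  exact ⟨e y, (Lib.Cores.map_equiv_fittingSubgroup e).le ⟨y, hy, rfl⟩, rfl⟩

theorem inv_fit (R : Subgroup K) : Inv R (fit R) := (inv_self R).fit

theorem inv_core (R : Subgroup K) {p : ℕ} (hp : p.Prime) : Inv R (core p R) := by
  have := Fact.mk hp
  intro α hα x hx
  obtain ⟨k, hk⟩ := core_pgroup (S := R) p ⟨x, hx⟩
  refine SporB.mem_core_pow (inv_fit R α hα x (core_le_fit p hx)) hp (k := k) ?_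
  rw [← map_pow, show x ^ p ^ k = 1 from congrArg Subtype.val hk, map_one]

/-- the elements `x` with `x ^ n = 1` of an abelian subgroup -/
def omg (X : Subgroup K) (hab : ∀ x ∈ X, ∀ y ∈ X, x * y = y * x) (n : ℕ) : Subgroup K where
  carrier := {x | x ∈ X ∧ x ^ n = 1}
  one_mem' := ⟨one_mem _, one_pow _⟩
  mul_mem' := fun {a b} ha hb =>
    ⟨mul_mem ha.1 hb.1, by rw [(show Commute a b from hab a ha.1 b hb.1).mul_pow, ha.2, hb.2, one_mul]⟩
  inv_mem' := fun {a} ha => ⟨inv_mem ha.1, by rw [inv_pow, ha.2, inv_one]⟩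

omit [Finite K] in
theorem mem_omg {hab : ∀ x ∈ X, ∀ y ∈ X, x * y = y * x} {n : ℕ} {x : K} : x ∈ omg X hab n ↔ x ∈ X ∧ x ^ n = 1 :=
  Iff.rfl

omit [Finite K] in
theorem Inv.omg (h : Inv R X) (hab : ∀ x ∈ X, ∀ y ∈ X, x * y = y * x) (n : ℕ) : Inv R (omg X hab n) :=
  fun α hα x hx => ⟨h α hα x hx.1, by rw [← map_pow, hx.2, map_one]⟩

theorem Ctx.fit_ne (h : Ctx R) : fit R ≠ ⊥ := fun hb => h.ne (eq_bot_iff.2 fun y hy => by
  rw [← hb]
  refine mem_fit_of_cent h.sol hy fun f hf => ?_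
  rw [hb, mem_bot] at hf
  rw [hf, mul_one, one_mul])

/-- an element which centralizes the Fitting subgroup lies in it -/
theorem Ctx.mem_fit (h : Ctx R) {z : K} (hz : ∀ f ∈ fit R, z * f = f * z) : z ∈ fit R :=
  mem_fit_of_cent h.sol (h.cent h.fit_ne (fit_le R) (inv_fit R) hz) hz

omit [Finite K] in
theorem Ctx.solv_of_le (h : Ctx R) (hle : X ≤ R) : Group.IsSolvable X :=
  have := h.sol
  Group.isSolvable_of_isSolvable_injective (f := inclusion hle) (inclusion_injective _)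

theorem le_core {p : ℕ} (hp : p.Prime) (hXR : X ≤ R) (hX : IsPGroup p X) (hn : ∀ s ∈ R, ∀ x ∈ X, s * x * s⁻¹ ∈ X) :
    X ≤ core p R := by
  intro x hx
  have := Fact.mk hp
  have h1 : (X.subgroupOf R).Normal := ⟨fun x hx s => mem_subgroupOf.2 (hn s s.2 x (mem_subgroupOf.1 hx))⟩
  have h2 : Group.IsNilpotent (X.subgroupOf R) := (hX.comap_subtype (K := R)).isNilpotent
  obtain ⟨k, hk⟩ := hX ⟨x, hx⟩
  exact SporB.mem_core_pow ⟨⟨x, hXR hx⟩, Lib.Cores.le_fittingSubgroup h1 h2 (mem_subgroupOf.2 hx), rfl⟩ hp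
    (congrArg Subtype.val hk)

theorem hc_le {c : K} {k m : ℕ} (hk : meet ⊤ R c ≤ k) (hm : Nat.card (centralizer ({c} : Set K)) ≤ m) :
    hc R c ≤ k * m := by
  rw [← hits_top, hits_eq, top_inf_eq, mul_comm]
  exact Nat.mul_le_mul hk hm

/-- `OddOK` from integer weights -/
theorem oddOK_of (P : Finset K) (hP : ∀ v ∈ fit R, v ≠ 1 → ∃ s ∈ P, s ∈ zpowers v) (k m : K → ℕ)
    (hk : ∀ c ∈ P, meet ⊤ R c ≤ k c) (hm : ∀ c ∈ P, Nat.card (centralizer ({c} : Set K)) ≤ m c)
    (hsum : ∑ c ∈ P, k c * m c + 2 * Nat.card R ^ 2 < Nat.card K) : OddOK R :=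
  ⟨P, hP, lt_of_le_of_lt (Nat.add_le_add_right (Finset.sum_le_sum fun c h => hc_le (hk c h) (hm c h)) _) hsum⟩

/-- crude form: `g` generators, `|R| ≤ n`, `k` conjugates, centralizers of order at most `m` -/
theorem oddOK_crude {P : Finset K} (hP : Gens (fit R) P) {g n k m : ℕ} (hg : P.card ≤ g) (hn : Nat.card R ≤ n)
    (hk : ∀ c ∈ fit R, (orderOf c).Prime → meet ⊤ R c ≤ k)
    (hm : ∀ c ∈ fit R, (orderOf c).Prime → Nat.card (centralizer ({c} : Set K)) ≤ m)
    (h : g * (k * m) + 2 * n ^ 2 < Nat.card K) : OddOK R := by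
  refine oddOK_of P hP.cover (fun _ => k) (fun _ => m) (fun c h => hk c (hP.mem c h).1 (hP.mem c h).2)
    (fun c h => hm c (hP.mem c h).1 (hP.mem c h).2) (lt_of_le_of_lt ?_ h)
  rw [Finset.sum_const, smul_eq_mul]
  exact Nat.add_le_add (Nat.mul_le_mul_right _ hg) (Nat.mul_le_mul_left _ (Nat.pow_le_pow_left hn 2))

section tr

variable [IsSimpleGroup K]

theorem ctx_comap (hK : ¬ IsMulCommutative K) {S : Subgroup (MulAut K)} (hS : Group.IsSolvable S)
    (hm : MaxInv (InnG K) S) : Ctx (S.comap (MulAut.conj : K →* MulAut K)) := by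
  have hfin : Finite (MulAut K) := Finite.of_injective (fun α : MulAut K => (α : K → K)) DFunLike.coe_injective
  have hT := as_inn hK
  have hi := conj_injective hK
  refine ⟨comap_solvable hK hS, fun hb => hm.inf_ne_bot hT hS (by rw [← map_comap_conj, hb, Subgroup.map_bot]), ?_⟩
  intro X h0 hle hX g hg
  have hle' : X.map MulAut.conj ≤ S := map_le_iff_le_comap.2 hle
  refine hm.mem_of_normalizes hT (X := X.map MulAut.conj) (fun e => h0 ((map_eq_bot_iff_of_injective X hi).1 e))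
    (fun e => hT.not_le hS (e.trans hle')) ?_ ⟨g, rfl⟩ ?_
  · rintro s hs _ ⟨y, hy, rfl⟩
    refine ⟨s y, hX s (fun r hr => ?_) y hy, (R1.conj_conj s y).symm⟩
    rw [mem_comap, ← R1.conj_conj]
    exact mul_mem (mul_mem hs hr) (inv_mem hs)
  · rintro _ ⟨y, hy, rfl⟩
    exact ⟨_, hg y hy, by rw [map_mul, map_mul, map_inv]⟩

omit [Finite K] in
theorem hits_conj_le (S : Subgroup (MulAut K)) (hK : ¬ IsMulCommutative K) (S' : Subgroup (MulAut K)) (h : S' ≤ S)
    [Finite K] (u : K) : hits (InnG K) S' (MulAut.conj u) ≤ hc (S.comap MulAut.conj) u := by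
  have hi := conj_injective hK
  choose f hf using fun x : InnG K => x.2
  refine Nat.card_le_card_of_injective (fun x => ⟨f x.1, ?_⟩) fun a b e => Subtype.ext (Subtype.ext ?_)
  · rw [mem_comap, map_mul, map_mul, map_inv, hf]
    exact h x.2
  · rw [← hf a.1, ← hf b.1, show f a.1 = f b.1 from congrArg Subtype.val e]

theorem good_of_two (hK : ¬ IsMulCommutative K) (ho : Nat.card (Out K) ≤ 2) {S : Subgroup (MulAut K)}
    (h : TwoOK (S.comap (MulAut.conj : K →* MulAut K))) : Seven (InnG K) S := by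
  have hfin : Finite (MulAut K) := Finite.of_injective (fun α : MulAut K => (α : K → K)) DFunLike.coe_injective
  have hinj := conj_injective hK
  obtain ⟨⟨x, -, y, -, z, -, h1⟩, h2, h3⟩ := h
  have hcT : Nat.card (InnG K) = Nat.card K := (Nat.card_congr (innEquiv hK).toEquiv).symm
  refine seven_of_inner (as_inn hK) ?_ ?_ ?_ ?_
  · intro a _ b _ ha hb
    have hn := innG_normal K
    have hi : (InnG K).index ≤ 2 := ho
    have hi0 : (InnG K).index ≠ 0 := index_ne_zero_of_finite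
    have hi1 : (InnG K).index ≠ 1 := fun e => ha (index_eq_one.1 e ▸ mem_top a)
    have hi2 : (InnG K).index = 2 := by omega
    rw [mul_mem_iff_of_index_two hi2, inv_mem_iff]
    exact iff_of_false ha hb
  · refine ⟨_, ⟨x, rfl⟩, _, ⟨y, rfl⟩, _, ⟨z, rfl⟩, ?_⟩
    rintro _ ⟨hs, s, rfl⟩ a b c
    rw [h1 s hs (by simpa [mem_comap] using a.1) (by simpa [mem_comap] using b.1) (by simpa [mem_comap] using c.1),
      map_one]
  · rintro _ ⟨u, rfl⟩ hu
    rw [hcT]
    exact le_trans (Nat.mul_le_mul_left _ (hits_conj_le S hK _ inf_le_left u)) (h2 u fun e => hu (by rw [e, map_one]))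
  · rw [hcT, ← map_comap_conj, card_map_of_injective hinj]
    exact h3

theorem mem_fit_comap (hK : ¬ IsMulCommutative K) {S : Subgroup (MulAut K)} {k : K} {p : ℕ} (hp : p.Prime)
    (hk : MulAut.conj k ∈ core p S) : k ∈ fit (S.comap (MulAut.conj : K →* MulAut K)) := by
  have hfin : Finite (MulAut K) := Finite.of_injective (fun α : MulAut K => (α : K → K)) DFunLike.coe_injective
  have := Fact.mk hp
  refine core_le_fit p (le_core hp (X := (core p S).comap MulAut.conj) (comap_mono (map_subtype_le _))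
    ((core_pgroup p).comap_of_injective _ (conj_injective hK)) (fun s hs x hx => ?_) hk)
  rw [mem_comap, map_mul, map_mul, map_inv]
  exact core_conj (S := S) p _ hs _ hx

theorem good_of_odd (hK : ¬ IsMulCommutative K) (ho : Nat.card (Out K) ≤ 2) {S : Subgroup (MulAut K)}
    (hm : MaxInv (InnG K) S) (h2 : ∀ c ∈ fit (S.comap (MulAut.conj : K →* MulAut K)), orderOf c ≠ 2)
    (h : OddOK (S.comap (MulAut.conj : K →* MulAut K))) : FitReg (InnG K) S := by
  classical
  have hfin : Finite (MulAut K) := Finite.of_injective (fun α : MulAut K => (α : K → K)) DFunLike.coe_injective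
  have hinj := conj_injective hK
  have hT := as_inn hK
  have hn := innG_normal K
  obtain ⟨P, hP, hsum⟩ := h
  set R := S.comap (MulAut.conj : K →* MulAut K) with hR
  have hcT : Nat.card (InnG K) = Nat.card K := (Nat.card_congr (innEquiv hK).toEquiv).symm
  have hcR : Nat.card ↥(S ⊓ InnG K) = Nat.card R := by rw [← map_comap_conj, card_map_of_injective hinj]
  have hcS : Nat.card S ≤ 2 * Nat.card R := by
    have h1 := card_eq_mul_relIndex (inf_le_left : S ⊓ InnG K ≤ S)
    rw [inf_relIndex_left, hcR] at h1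
    rw [← h1, mul_comm]
    exact Nat.mul_le_mul_right _ ((relIndex_inn_le S).trans ho)
  have hidx : ∀ a b : MulAut K, a ∉ InnG K → b ∉ InnG K → a * b⁻¹ ∈ InnG K := by
    intro a b ha hb
    have hi : (InnG K).index ≤ 2 := ho
    have hi0 : (InnG K).index ≠ 0 := index_ne_zero_of_finite
    have hi1 : (InnG K).index ≠ 1 := fun e => ha (index_eq_one.1 e ▸ mem_top a)
    have hi2 : (InnG K).index = 2 := by omega
    rw [mul_mem_iff_of_index_two hi2, inv_mem_iff]
    exact iff_of_false ha hb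
  have hQ : ∀ a ∈ core 2 S, a ∈ InnG K → a = 1 := by
    rintro _ ha ⟨k, rfl⟩
    by_contra h1
    obtain ⟨s, hs, hp⟩ := exists_prime_order_zpowers (v := k) fun e => h1 (by rw [e, map_one])
    have h3 : MulAut.conj s ∈ core 2 S := by
      obtain ⟨j, rfl⟩ := mem_zpowers_iff.1 hs
      rw [map_zpow]
      exact zpow_mem ha j
    have := Fact.mk Nat.prime_two
    obtain ⟨j, hj⟩ := IsPGroup.iff_orderOf.1 (core_pgroup (S := S) 2) ⟨_, h3⟩
    rw [Subgroup.orderOf_mk, orderOf_injective _ hinj] at hj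
    exact h2 s (mem_fit_comap hK Nat.prime_two h3)
      ((Nat.prime_dvd_prime_iff_eq hp Nat.prime_two).1 (hp.dvd_of_dvd_pow hj.dvd))
  let O := (primeElts (fit S)).filter (· ∉ InnG K)
  have hO : ∀ t ∈ O, t ∈ core 2 S ∧ t ∉ InnG K := by
    intro t ht
    obtain ⟨h3, h4⟩ := Finset.mem_filter.1 ht
    obtain ⟨h5, h6⟩ := mem_primeElts.1 h3
    refine ⟨mem_core h5 Nat.prime_two ?_, h4⟩
    by_contra h7
    obtain ⟨j, hj⟩ := h6.odd_of_ne_two h7
    have h8 : t * t ∈ InnG K := by simpa using hidx t t⁻¹ h4 (by rwa [inv_mem_iff])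
    have h9 := pow_orderOf_eq_one t
    rw [hj, pow_succ, pow_mul, pow_two] at h9
    exact h4 (by rw [eq_inv_of_mul_eq_one_right h9]; exact inv_mem (pow_mem h8 j))
  have hO1 : O.card ≤ 1 := Finset.card_le_one.2 fun a ha b hb => mul_inv_eq_one.1
    (hQ _ (mul_mem (hO a ha).1 (inv_mem (hO b hb).1)) (hidx a b (hO a ha).2 (hO b hb).2))
  have hO2 : ∀ t ∈ O, hits (InnG K) S t ≤ 2 * Nat.card R ^ 2 := by
    intro t ht
    obtain ⟨h3, h4⟩ := hO t ht
    have h5 : ∀ s ∈ S, s * t * s⁻¹ = t := fun s hs => mul_inv_eq_one.1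
      (hQ _ (mul_mem (core_conj 2 s hs t h3) (inv_mem h3)) (hidx _ _ (fun h => h4 (by
        simpa [mul_assoc] using hn.conj_mem _ h s⁻¹)) h4))
    have h6 : InnG K ⊓ centralizer {t} ≤ S ⊓ InnG K := by
      refine le_inf (hm.le_of_inv hT inf_le_left (fun e => ?_) fun s hs y hy => ⟨hn.conj_mem _ hy.1 s, ?_⟩) inf_le_left
      · have h7 : t ∈ centralizer (InnG K : Set (MulAut K)) := mem_centralizer_iff.2 fun y hy =>
          mem_centralizer_singleton_iff.1 (e.ge hy).2
        rw [hT.cent, mem_bot] at h7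
        exact h4 (h7 ▸ one_mem _)
      · refine mem_centralizer_singleton_iff.2 ?_
        have h7 := mem_centralizer_singleton_iff.1 hy.2
        calc s * y * s⁻¹ * t = s * (y * (s⁻¹ * t * s⁻¹⁻¹)) * s⁻¹ := by group
          _ = s * (t * y) * s⁻¹ := by rw [h5 _ (inv_mem hs), h7]
          _ = s * t * s⁻¹ * (s * y * s⁻¹) := by group
          _ = _ := by rw [h5 s hs]
    rw [hits_eq, pow_two, ← mul_assoc, mul_comm]
    exact Nat.mul_le_mul ((meet_le_card _ _ t).trans hcS) ((card_le_of_le h6).trans hcR.le)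
  refine fitReg_iff.2 (exists_good (P.image MulAut.conj ∪ O) (fun v hv hv1 => ?_) ?_)
  · obtain ⟨s, hs, hp⟩ := exists_prime_order_zpowers hv1
    have h3 : s ∈ fit S := zpowers_le.2 hv hs
    by_cases h4 : s ∈ InnG K
    · obtain ⟨k, rfl⟩ := h4
      obtain ⟨c, h5, h6⟩ := hP k (mem_fit_comap hK hp (mem_core h3 hp rfl)) fun e => by
        rw [e, map_one, orderOf_one] at hp
        exact Nat.not_prime_one hp
      refine ⟨_, Finset.mem_union_left _ (Finset.mem_image_of_mem _ h5), zpowers_le.2 hs ?_⟩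
      obtain ⟨j, rfl⟩ := mem_zpowers_iff.1 h6
      rw [map_zpow]
      exact zpow_mem (mem_zpowers _) j
    · exact ⟨s, Finset.mem_union_right _ (Finset.mem_filter.2 ⟨mem_primeElts.2 ⟨h3, hp⟩, h4⟩), hs⟩
  · rw [hcT]
    refine lt_of_le_of_lt ?_ hsum
    refine le_trans (le_trans (Nat.le_add_right _ _) (Finset.sum_union_inter).le) (Nat.add_le_add ?_ ?_)
    · rw [Finset.sum_image fun a _ b _ e => hinj e]
      exact Finset.sum_le_sum fun c _ => hits_conj_le S hK S le_rfl c
    · refine (Finset.sum_le_card_nsmul _ _ _ hO2).trans ?_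
      rw [smul_eq_mul]
      exact (Nat.mul_le_mul_right _ hO1).trans (one_mul _).le

/-- **The translation.** -/
theorem row_of_ctx (hK : ¬ IsMulCommutative K) (ho : Nat.card (Out K) ≤ 2)
    (h2 : ∀ R : Subgroup K, Ctx R → (∃ c ∈ fit R, orderOf c = 2) → TwoOK R)
    (h1 : ∀ R : Subgroup K, Ctx R → (∀ c ∈ fit R, orderOf c ≠ 2) → OddOK R ∨ TwoOK R) : Row K := by
  intro S hS hm
  have hc := ctx_comap hK hS hm
  by_cases h : ∃ c ∈ fit (S.comap (MulAut.conj : K →* MulAut K)), orderOf c = 2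
  · exact Or.inr (good_of_two hK ho (h2 _ hc h))
  · push Not at h
    rcases h1 _ hc h with h3 | h3
    · exact Or.inl (good_of_odd hK ho hm h h3)
    · exact Or.inr (good_of_two hK ho h3)

end tr

end Cfsg.Agent.SB.SporD
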