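import Cfsg.Agent.SB.SporD.Ctx
import Cfsg.Agent.H651.HNF.Main
import Cfsg.Agent.S1701
import Cfsg.Agent.S2082

/-!
# S5765, the row `HN`: interface (helper26)

Boxes: `BoxC5`, `BoxCW` (centralizers of elements of order five), `BoxF5`, `BoxF3` (Fitting subgroup of odd order),
`BoxTwo` (Fitting subgroup of even order); `row_of_boxes`.
-/

set_option autoImplicit false

namespace Cfsg.Agent.SB.SporD.HN

open Subgroup Cfsg Cfsg.Agent.H786.FC Cfsg.Agent.SB.Mon Cfsg.Agent.SB.Spor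
open Cfsg.Agent.H651.HNF (raw cn)

/-- the group -/
abbrev G : Type := Cfsg.Spor.HN

theorem cardG : Nat.card G = 273030912000000 := raw.card

theorem finG : Finite G := Nat.finite_of_card_ne_zero (by rw [cardG]; norm_num)

theorem ncG : ¬ IsMulCommutative G := by
  intro hc
  have : IsSimpleGroup G := S1701.result.1
  have h1 : (Nat.card G).Prime := by
    let _ : CommGroup G := { (inferInstance : Group G) with mul_comm := hc.is_comm.comm }
    exact IsSimpleGroup.prime_card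
  rw [cardG] at h1
  exact absurd (h1.eq_one_or_self_of_dvd 2 (by norm_num)) (by norm_num)

/-- centralizers of elements of order five -/
def BoxC5 : Prop := ∀ x : G, orderOf x = 5 → cn x ≤ 630000

/-- the centralizer of a 5-central element -/
def BoxCW : Prop := ∀ x : G, orderOf x = 5 → 5 ^ 6 ∣ cn x → cn x ∣ 500000

/-- `F(R) = O₅(R)` -/
def BoxF5 : Prop := ∀ R : Subgroup G, Ctx R → IsPGroup 5 (fit R) → OddOK R

/-- `O₃(R) ≠ 1`, `F(R) = O₃(R) × O₅(R)` -/
def BoxF3 : Prop := ∀ R : Subgroup G, Ctx R → (∃ c ∈ fit R, orderOf c = 3) →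
  (∀ c ∈ fit R, (orderOf c).Prime → orderOf c = 3 ∨ orderOf c = 5) → OddOK R

/-- `O₂(R) ≠ 1` -/
def BoxTwo : Prop := ∀ R : Subgroup G, Ctx R → (∃ c ∈ fit R, orderOf c = 2) → TwoOK R

theorem prime_dvd {p : ℕ} (hp : p.Prime) (h : p ∣ 273030912000000) :
    p = 2 ∨ p = 3 ∨ p = 5 ∨ p = 7 ∨ p = 11 ∨ p = 19 := by
  have e : 273030912000000 = 2 ^ 14 * (3 ^ 6 * (5 ^ 6 * (7 ^ 1 * (11 ^ 1 * 19 ^ 1)))) := by norm_num
  have k : ∀ {q n : ℕ}, q.Prime → p ∣ q ^ n → p = q := fun hq h =>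
    (Nat.prime_dvd_prime_iff_eq hp hq).1 (hp.dvd_of_dvd_pow h)
  rw [e] at h
  simp only [hp.dvd_mul] at h
  rcases h with h | h | h | h | h | h
  · exact Or.inl (k (by norm_num) h)
  · exact Or.inr (Or.inl (k (by norm_num) h))
  · exact Or.inr (Or.inr (Or.inl (k (by norm_num) h)))
  · exact Or.inr (Or.inr (Or.inr (Or.inl (k (by norm_num) h))))
  · exact Or.inr (Or.inr (Or.inr (Or.inr (Or.inl (k (by norm_num) h)))))
  · exact Or.inr (Or.inr (Or.inr (Or.inr (Or.inr (k (by norm_num) h)))))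

theorem order_cases {c : G} (hp : (orderOf c).Prime) :
    orderOf c = 2 ∨ orderOf c = 3 ∨ orderOf c = 5 ∨ orderOf c = 7 ∨ orderOf c = 11 ∨ orderOf c = 19 :=
  prime_dvd hp (cardG ▸ orderOf_dvd_natCard c)

theorem cn_three {c : G} (h : orderOf c = 3) : cn c ≤ 544320 := by
  rcases raw.r3 c h with h | h <;> omega

theorem cn_odd (h5 : BoxC5) {c : G} (hp : (orderOf c).Prime) (h2 : orderOf c ≠ 2) : cn c ≤ 630000 := by
  rcases order_cases hp with h | h | h | h | h | h
  · exact absurd h h2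
  · exact (cn_three h).trans (by norm_num)
  · exact h5 c h
  · rw [raw.r7 c h]; norm_num
  · rw [raw.r11 c h]; norm_num
  · rw [raw.r19 c h]; norm_num

theorem odd_big (h5 : BoxC5) {R : Subgroup G} (h2 : ∀ c ∈ fit R, orderOf c ≠ 2) {c : G} (hc : c ∈ fit R)
    (hp : (orderOf c).Prime) (h7 : 7 ≤ orderOf c) : OddOK R := by
  have := finG
  have fp : Fact (orderOf c).Prime := ⟨hp⟩
  have hc1 := mem_core hc hp rfl
  obtain ⟨k, hk⟩ := IsPGroup.iff_card.1 (core_pgroup (S := R) (orderOf c))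
  have h1 := card_subgroup_dvd_card (core (orderOf c) R)
  rw [cardG, hk] at h1
  have key : ∀ {q : ℕ}, orderOf c = q → ¬ q ^ 2 ∣ 273030912000000 → q * cn c ≤ 2940 → Nat.card R ≤ 2940 := by
    intro q e h6 h8
    refine (card_le_of_conj (Z := core (orderOf c) R) (y := c) fun s hs => core_conj _ s hs c hc1).trans
      (le_trans (Nat.mul_le_mul ?_ (card_le_of_le inf_le_right)) h8)
    rw [hk]
    rw [e] at h1 h7 ⊢
    refine le_trans (Nat.pow_le_pow_right (by omega) ?_) (pow_one q).le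
    by_contra hcon
    exact h6 ((pow_dvd_pow q (by omega)).trans h1)
  have hR : Nat.card R ≤ 2940 := by
    rcases order_cases hp with h | h | h | h | h | h
    · omega
    · omega
    · omega
    · exact key h (by norm_num) (by rw [raw.r7 c h])
    · exact key h (by norm_num) (by rw [raw.r11 c h]; norm_num)
    · exact key h (by norm_num) (by rw [raw.r19 c h]; norm_num)
  refine oddOK_of (primeElts (fit R)) (primeElts_cover _) (fun _ => 2940) (fun _ => 630000)
    (fun d _ => (meet_le_card _ _ d).trans hR)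
    (fun d hd => cn_odd h5 (mem_primeElts.1 hd).2 (h2 d (mem_primeElts.1 hd).1)) ?_
  have h3 := (card_primeElts_lt (fit R)).le.trans ((card_le_of_le (fit_le R)).trans hR)
  rw [Finset.sum_const, smul_eq_mul, cardG]
  have h4 := Nat.pow_le_pow_left hR 2
  omega

theorem row_of_boxes (h5 : BoxC5) (hF5 : BoxF5) (hF3 : BoxF3) (hT : BoxTwo) (K : Type*) [Group K]
    (h : Cfsg.Spor.IsoHN K) : Row K := by
  obtain ⟨e⟩ := h
  refine Row.of_equiv e ?_
  have := finG
  have : IsSimpleGroup G := S1701.result.1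
  refine row_of_ctx ncG S2082.result.le hT fun R hR h2 => Or.inl ?_
  by_cases h7 : ∃ c ∈ fit R, (orderOf c).Prime ∧ 7 ≤ orderOf c
  · obtain ⟨c, hc, hp, h7⟩ := h7
    exact odd_big h5 h2 hc hp h7
  have h35 : ∀ c ∈ fit R, (orderOf c).Prime → orderOf c = 3 ∨ orderOf c = 5 := by
    intro c hc hp
    have h8 : ¬ 7 ≤ orderOf c := fun h => h7 ⟨c, hc, hp, h⟩
    have h9 := h2 c hc
    have := order_cases hp
    omega
  by_cases h3 : ∃ c ∈ fit R, orderOf c = 3
  · exact hF3 R hR h3 h35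
  · have f5 : Fact (Nat.Prime 5) := ⟨by norm_num⟩
    refine hF5 R hR (IsPGroup.iff_card.2 ⟨_, Nat.eq_prime_pow_of_unique_prime_dvd Nat.card_pos.ne'
      fun {q} hq hd => ?_⟩)
    have : Fact q.Prime := ⟨hq⟩
    obtain ⟨y, hy⟩ := exists_prime_orderOf_dvd_card' _ hd
    have hy' : orderOf (y : G) = q := by rw [Subgroup.orderOf_coe, hy]
    rcases h35 y y.2 (hy' ▸ hq) with h1 | h1
    · exact absurd ⟨y, y.2, h1⟩ h3
    · exact hy' ▸ h1

end Cfsg.Agent.SB.SporD.HN
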