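import Cfsg.Agent.SB.SporD.HNL

/-!
# S5765, the row `HN`: subgroups of odd order normalized by a large subgroup of `2^(1+8)` (helper26)
-/

set_option autoImplicit false

namespace Cfsg.Agent.SB.SporD.HN

open Subgroup Cfsg Cfsg.Agent.SB.Mon
open Cfsg.Agent.HN.XWords (W0)
open Cfsg.Agent.KFacts.HN
open Cfsg.Agent.H653.HNE

/-- an involution without fixed points inverts -/
theorem inverts {K : Type*} [Group K] [Finite K] {U : Subgroup K} {t : K} (ht : t * t = 1)
    (hn : ∀ y ∈ U, t * y * t⁻¹ ∈ U) (hf : ∀ y ∈ U, t * y = y * t → y = 1) : ∀ y ∈ U, t * y * t⁻¹ = y⁻¹ := by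
  have h1 : Function.Surjective fun w : U => (⟨(w : K)⁻¹ * (t * w * t⁻¹), mul_mem (inv_mem w.2) (hn w w.2)⟩ : U) := by
    refine Finite.surjective_of_injective fun w v h => Subtype.ext ?_
    have h2 : (w : K)⁻¹ * (t * w * t⁻¹) = (v : K)⁻¹ * (t * v * t⁻¹) := congrArg Subtype.val h
    refine (mul_inv_eq_one.1 (hf _ (mul_mem v.2 (inv_mem w.2)) ?_)).symm
    calc t * (v * (w : K)⁻¹) = v * ((v : K)⁻¹ * (t * v * t⁻¹)) * (t * (w : K)⁻¹) := by group
      _ = _ := by rw [← h2]; group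
  intro y hy
  obtain ⟨w, hw⟩ := h1 ⟨y, hy⟩
  have h2 : (w : K)⁻¹ * (t * w * t⁻¹) = y := congrArg Subtype.val hw
  rw [← h2]
  calc t * ((w : K)⁻¹ * (t * w * t⁻¹)) * t⁻¹ = t * (w : K)⁻¹ * t⁻¹ * (t * t) * w * (t * t)⁻¹ := by group
    _ = _ := by rw [ht]; group

theorem half {U : Subgroup G} (hU : U ≤ RS) {v : G} (hv : v ∈ RS) :
    Nat.card U ≤ 2 * Nat.card ↥(U ⊓ centralizer {v}) := by
  rcases cent_or Nat.prime_two orderOf_W0 (fun g hg => mem_PP.1 (RS_le_PP hg)) comm_RS hU hv with h | h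
  · rw [inf_eq_left.2 fun u hu => mem_centralizer_singleton_iff.2 (h u hu)]
    omega
  · exact h.ge

theorem comm_eq {x y : G} (hx : x ∈ RS) (hy : y ∈ RS) (h : x * y ≠ y * x) : x * y * x⁻¹ = W0 * y := by
  classical
  have h1 := comm_RS x hx y hy
  rw [mem_zpowers_iff_mem_range_orderOf, orderOf_W0, Finset.mem_image] at h1
  obtain ⟨k, hk, e⟩ := h1
  rw [Finset.mem_range] at hk
  interval_cases k
  · exact absurd (by rw [← mul_inv_eq_one, mul_inv_rev, ← mul_assoc, ← e, pow_zero]) h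
  · rw [← pow_one W0, e, inv_mul_cancel_right]

theorem two_RS : IsPGroup 2 RS := IsPGroup.of_card (n := 9) card_RS

theorem WW : W0 * W0 = 1 := by rw [← pow_two, W0_sq']

theorem odd_bot {U : Subgroup G} {u v : G} {p : ℕ} (hp : p.Prime) (hp2 : p ≠ 2) (hu : u ∈ RS) (hv : v ∈ RS)
    (huv : u * v = v * u) (hU : IsPGroup p U) (h4 : Nat.card U < p ^ 4)
    (hn : ∀ e : G, e * u = u * e → e * v = v * e → ∀ y ∈ U, e * y * e⁻¹ ∈ U) : U = ⊥ := by
  have fp := Fact.mk hp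
  obtain ⟨E, hE⟩ : ∃ E : Subgroup G, E = RS ⊓ centralizer {u} ⊓ centralizer {v} := ⟨_, rfl⟩
  have mE : ∀ {e : G}, e ∈ E ↔ e ∈ RS ∧ e * u = u * e ∧ e * v = v * e := fun {e} => by
    rw [hE, mem_inf, mem_inf, mem_centralizer_singleton_iff, mem_centralizer_singleton_iff, and_assoc]
  have ER : E ≤ RS := fun _ h => (mE.1 h).1
  have nE : ∀ e ∈ E, ∀ y ∈ U, e * y * e⁻¹ ∈ U := fun e he => hn e (mE.1 he).2.1 (mE.1 he).2.2
  have zc : ∀ g ∈ RS, g * W0 = W0 * g := fun g hg => mem_PP.1 (RS_le_PP hg)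
  have WE : W0 ∈ E := mE.2 ⟨KFacts.HN.W0_mem_RS, (zc u hu).symm, (zc v hv).symm⟩
  have cE : 128 ≤ Nat.card E := by
    have h1 := half le_rfl hu
    have h2 := half (U := RS ⊓ centralizer {u}) inf_le_left hv
    rw [card_RS] at h1
    rw [← hE] at h2
    omega
  have one : ∀ c ∈ U, c ∈ RS → c = 1 := fun c h1 h2 => SporB.eq_one_of_two hp Nat.prime_two hp2 hU two_RS h1 h2
  have fixW : ∀ y ∈ U, W0 * y = y * W0 → y = 1 := by
    intro y hy hW
    have hP : y ∈ PP := mem_PP.2 hW.symm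
    have h1 : ∀ e ∈ E, y * e * y⁻¹ = e := fun e he => mul_inv_eq_one.1 (one _
      (by rw [show y * e * y⁻¹ * e⁻¹ = y * (e * y⁻¹ * e⁻¹) by group]; exact mul_mem hy (nE e he _ (inv_mem hy)))
      (mul_mem (conj_RS hP (ER he)) (inv_mem (ER he))))
    refine one y hy ?_
    suffices h : ∀ g ∈ RS, y * g = g * y by
      rcases cent_RS h with h | h <;> rw [h]
      exacts [one_mem _, KFacts.HN.W0_mem_RS]
    intro g hg
    obtain ⟨c, hc⟩ : ∃ c, c = g⁻¹ * (y * g * y⁻¹) := ⟨_, rfl⟩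
    have h2 : ∀ e ∈ E, c * e = e * c := by
      intro e he
      have h3 : g * e * g⁻¹ ∈ E := by
        by_cases h : g * e = e * g
        · rwa [h, mul_inv_cancel_right]
        · rw [comm_eq hg (ER he) h]
          exact mul_mem WE he
      have h5 : y⁻¹ * e * y = e := by
        nth_rewrite 1 [← h1 e he]
        group
      calc c * e = g⁻¹ * (y * (g * (y⁻¹ * e * y) * g⁻¹) * y⁻¹) * g * c := by rw [hc]; group
        _ = _ := by rw [h5, h1 _ h3]; group
    have h3 : c ∈ E := mE.2 ⟨hc ▸ mul_mem (inv_mem hg) (conj_RS hP hg), h2 u (mE.2 ⟨hu, rfl, huv⟩),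
      h2 v (mE.2 ⟨hv, huv.symm, rfl⟩)⟩
    have h5 : ∀ k : ℕ, y ^ k * g * (y ^ k)⁻¹ = g * c ^ k := by
      intro k
      induction k with
      | zero => simp
      | succ k ih =>
        calc y ^ (k + 1) * g * (y ^ (k + 1))⁻¹ = y * (y ^ k * g * (y ^ k)⁻¹) * y⁻¹ := by rw [pow_succ']; group
          _ = g * (g⁻¹ * (y * g * y⁻¹)) * (y * c ^ k * y⁻¹) := by rw [ih]; group
          _ = _ := by rw [← hc, h1 _ (pow_mem h3 k), pow_succ', mul_assoc]
    obtain ⟨k, hk⟩ := hU ⟨y, hy⟩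
    have h6 := h5 (p ^ k)
    rw [show y ^ p ^ k = 1 from congrArg Subtype.val hk, one_mul, inv_one, mul_one, left_eq_mul] at h6
    obtain ⟨j, hj⟩ := two_RS ⟨c, ER h3⟩
    have h7 : c = 1 := by
      have h8 := Nat.dvd_gcd (orderOf_dvd_of_pow_eq_one h6)
        (orderOf_dvd_of_pow_eq_one (show c ^ 2 ^ j = 1 from congrArg Subtype.val hj))
      rwa [Nat.Coprime.pow k j ((Nat.coprime_primes hp Nat.prime_two).2 hp2), Nat.dvd_one, orderOf_eq_one_iff] at h8
    rw [h7, eq_inv_mul_iff_mul_eq, mul_one, eq_mul_inv_iff_mul_eq] at hc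
    exact hc.symm
  obtain ⟨Z, hZ⟩ : ∃ Z : Subgroup G, Z = RS ⊓ centralizer (E : Set G) := ⟨_, rfl⟩
  have cZ : Nat.card Z ≤ 8 := by
    have h1 := card_mul_RS ER (hZ ▸ inf_le_left : Z ≤ RS) fun a ha b hb => mem_centralizer_iff.1 (hZ ▸ hb).2 a ha
    nlinarith
  obtain ⟨a, ha, ha2, haZ⟩ : ∃ a ∈ E, a * a = 1 ∧ a ∉ Z := by
    by_contra hcon
    push Not at hcon
    have h1 : ∀ a ∈ E, a ∉ Z → a * a = W0 := fun a ha h => (sq_RS (ER ha)).resolve_left fun e => h (hcon a ha e)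
    obtain ⟨g, hg, hgZ⟩ := SetLike.not_le_iff_exists.1 fun h : E ≤ Z => by
      have := card_le_of_le h
      omega
    have h2 := half ER (ER hg)
    have h3 : Nat.card ↥(E ⊓ centralizer {g}) ≤ Nat.card (Z ⊕ Z) := by
      classical
      have h5 : ∀ h : ↥(E ⊓ centralizer {g}), (h : G) ∉ Z → g * h ∈ Z := by
        intro h hh
        by_contra h6
        have h7 := h1 _ (mul_mem hg h.2.1) h6
        rw [show g * h * (g * h) = g * (h * g) * h by group, mem_centralizer_singleton_iff.1 h.2.2,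
          show g * (g * h) * h = g * g * (h * h) by group, h1 g hg hgZ, h1 h h.2.1 hh, WW] at h7
        exact W0_ne h7.symm
      refine Nat.card_le_card_of_injective (fun h => if c : (h : G) ∈ Z then Sum.inl ⟨h, c⟩ else Sum.inr ⟨_, h5 h c⟩)
        fun a b hab => Subtype.ext ?_
      dsimp only at hab
      split_ifs at hab
      · exact congrArg (fun z : Z => (z : G)) (Sum.inl_injective hab)
      · exact mul_left_cancel (congrArg (fun z : Z => (z : G)) (Sum.inr_injective hab))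
    rw [Nat.card_sum] at h3
    omega
  obtain ⟨b, hb, hba⟩ : ∃ b ∈ E, b * a ≠ a * b := by
    by_contra hcon
    push Not at hcon
    exact haZ (hZ ▸ ⟨ER ha, mem_centralizer_iff.2 hcon⟩)
  have hab := comm_eq (ER hb) (ER ha) hba
  have fixa : ∀ y ∈ U, a * y = y * a → y = 1 := by
    intro y hy hya
    have h1 := card_inf_conj (H' := U) a (nE b hb)
    have h2 : Nat.card ↥(U ⊓ centralizer {a}) * Nat.card ↥(U ⊓ centralizer {b * a * b⁻¹}) ≤ Nat.card U := by
      rw [← Nat.card_prod]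
      refine Nat.card_le_card_of_injective (fun q => ⟨q.1 * q.2, mul_mem q.1.2.1 q.2.2.1⟩) ?_
      rintro ⟨x, w⟩ ⟨x', w'⟩ e
      have e1 : (x : G) * w = x' * w' := congrArg Subtype.val e
      have e2 : (x' : G)⁻¹ * x = w' * (w : G)⁻¹ := by
        rw [inv_mul_eq_iff_eq_mul, ← mul_assoc, ← e1, mul_inv_cancel_right]
      have e3 := mem_centralizer_singleton_iff.1 (mul_mem (inv_mem x'.2) x.2).2
      have e4 := mem_centralizer_singleton_iff.1 (mul_mem w'.2 (inv_mem w.2)).2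
      rw [← e2, hab] at e4
      have e5 := fixW _ (mul_mem (inv_mem x'.2) x.2).1 (mul_right_cancel (b := a) (by
        rw [mul_assoc W0, e3, ← mul_assoc W0, ← e4, mul_assoc _ W0]))
      exact Prod.ext (Subtype.ext (inv_mul_eq_one.1 e5).symm) (Subtype.ext (mul_inv_eq_one.1 (e2 ▸ e5)).symm)
    obtain ⟨k, hk⟩ := IsPGroup.iff_card.1 (hU.to_le (inf_le_left : U ⊓ centralizer {a} ≤ U))
    have h3 : Nat.card ↥(U ⊓ centralizer {a}) ≤ p := by
      have h5 : p ^ (k + k) < p ^ 4 := by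
        rw [pow_add, ← hk]
        exact lt_of_le_of_lt ((Nat.mul_le_mul_left _ h1).trans h2) h4
      have h6 := (Nat.pow_lt_pow_iff_right hp.one_lt).1 h5
      rw [hk]
      exact (Nat.pow_le_pow_right hp.pos (by omega : k ≤ 1)).trans (pow_one p).le
    by_contra y1
    have h5 : zpowers y = U ⊓ centralizer {a} := by
      refine eq_of_le_of_card_ge (zpowers_le.2 ⟨hy, mem_centralizer_singleton_iff.2 hya.symm⟩) (h3.trans ?_)
      obtain ⟨j, hj⟩ := IsPGroup.iff_orderOf.1 hU ⟨y, hy⟩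
      rw [Subgroup.orderOf_mk] at hj
      rw [Nat.card_zpowers, hj]
      exact Nat.le_self_pow (fun e => y1 (by rwa [e, pow_zero, orderOf_eq_one_iff] at hj)) p
    have h6 : ∀ e ∈ E ⊓ centralizer {a}, ∃ i : ℤ, e * y * e⁻¹ = y ^ i := by
      intro e he
      have h7 : e * y * e⁻¹ ∈ zpowers y := by
        rw [h5]
        refine ⟨nE e he.1 y hy, mem_centralizer_singleton_iff.2 ?_⟩
        have h8 := mem_centralizer_singleton_iff.1 he.2
        calc e * y * e⁻¹ * a = e * y * e⁻¹ * (a * e) * e⁻¹ := by group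
          _ = e * (y * a) * e⁻¹ := by rw [← h8]; group
          _ = _ := by rw [← hya, ← mul_assoc e, h8]; group
      obtain ⟨i, hi⟩ := mem_zpowers_iff.1 h7
      exact ⟨i, hi.symm⟩
    obtain ⟨s, hs, t, ht, hst⟩ : ∃ s ∈ E ⊓ centralizer {a}, ∃ t ∈ E ⊓ centralizer {a}, s * t ≠ t * s := by
      by_contra hcon
      push Not at hcon
      have h7 := card_mul_RS (inf_le_left.trans ER) (inf_le_left.trans ER) hcon
      have h8 := half ER (ER ha)
      nlinarith
    obtain ⟨i, hi⟩ := h6 s hs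
    obtain ⟨j, hj⟩ := h6 t ht
    have h7 := comm_eq (ER hs.1) (ER ht.1) hst
    have h8 : s * t * y * (s * t)⁻¹ = t * s * y * (t * s)⁻¹ := by
      calc s * t * y * (s * t)⁻¹ = s * (t * y * t⁻¹) * s⁻¹ := by group
        _ = (y ^ i) ^ j := by rw [hj, ← conj_zpow, hi]
        _ = (y ^ j) ^ i := by rw [← zpow_mul, mul_comm, zpow_mul]
        _ = t * (s * y * s⁻¹) * t⁻¹ := by rw [hi, ← conj_zpow, hj]
        _ = _ := by group
    rw [mul_inv_eq_iff_eq_mul] at h7
    have h9 := fixW _ (nE _ (mul_mem ht.1 hs.1) y hy) (by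
      rw [← mul_inv_eq_iff_eq_mul]
      nth_rewrite 2 [← h8]
      rw [h7]
      group)
    exact y1 (conj_eq_one_iff.1 h9)
  refine eq_bot_iff.2 fun y hy => mem_bot.2 ?_
  have h1 := inverts WW (nE _ WE) fixW
  have h2 := inverts ha2 (nE a ha) fixa
  have h3 : b * a * b⁻¹ * y * (b * a * b⁻¹)⁻¹ = y := by
    rw [hab, show W0 * a * y * (W0 * a)⁻¹ = W0 * (a * y * a⁻¹) * W0⁻¹ by group, h2 y hy, h1 _ (inv_mem hy), inv_inv]
  have h5 := fixa _ (nE _ (inv_mem hb) y hy) (by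
    nth_rewrite 2 [← h3]
    group)
  exact conj_eq_one_iff.1 h5

end Cfsg.Agent.SB.SporD.HN
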