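import Cfsg.Agent.SB.SporD.HN0
import Cfsg.Agent.H793.Cyc.FiveHN

/-!
# S5765, the row `HN`: the Sylow 5-subgroups (helper8)

`Syl S z` : `S` has order `5 ^ 6`, `z` is central of order five, and an element outside of `⟨z⟩` has a non-trivial
commutator in `⟨z⟩` or a centralizer of order at most `125` in `S`.  `card_ab` : abelian 5-subgroups.
-/

set_option autoImplicit false

namespace Cfsg.Agent.SB.SporD.HN.F5

open Subgroup Cfsg Cfsg.Agent.H786.FC Cfsg.Agent.SB.Mon Cfsg.Agent.H839.Rad.Ext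
open Cfsg.Agent.H981.InvHN (P isPGroup_P index_P Q_le_P F_mem_P F_not pow_form zpow_eq nf_mod nf_eq exists_code nv d0
  d1 d2 d3 F5 Fz_Q)
open Cfsg.Agent.H839.Rad.HN (W A B C₁ D F ext FW e_w5)
open Cfsg.Agent.H793.Cyc.FiveHN (stepF)

theorem nf_inj {i j u l m i' j' u' l' m' : ℤ} (h : nf W A B C₁ D i j u l m = nf W A B C₁ D i' j' u' l' m') :
    (5 : ℤ) ∣ i - i' ∧ (5 : ℤ) ∣ j - j' ∧ (5 : ℤ) ∣ u - u' ∧ (5 : ℤ) ∣ l - l' := by
  have h1 := congrArg (· * nf W A B C₁ D (-i') (-j') (-u') (-l') 0) h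
  simp only [ext.nf_mul, add_neg_cancel] at h1
  have key : ∀ r s t v : ℤ, ((5 : ℕ) : ℤ) ∣ (i + -i') * s - r * (j + -j') + (u + -u') * v - t * (l + -l') := by
    intro r s t v
    refine (ext.comm_iff (m := m + 0 - -i' * j - -u' * l) (m' := 0)).1 ?_
    rw [h1]
    exact ext.comm_iff.2 (by simp)
  have k1 := key 0 1 0 0
  have k2 := key 1 0 0 0
  have k3 := key 0 0 0 1
  have k4 := key 0 0 1 0
  push_cast at k1 k2 k3 k4
  omega

/-- the elements of `Q` commuting with `q F` -/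
theorem cent_Q {q y : G} (hq : q ∈ ext.Q) (hy : y ∈ ext.Q) (h : y * (q * F) = q * F * y) :
    ∃ l m : Fin 5, y = nf W A B C₁ D (4 * (l : ℕ)) (4 * (l : ℕ)) 0 (l : ℕ) (m : ℕ) := by
  have h1 : q⁻¹ * y * q⁻¹⁻¹ * y⁻¹ ∈ zpowers W := ext.commutator_mem _ (inv_mem hq) y hy
  obtain ⟨n, hn⟩ := mem_zpowers_iff.1 h1
  have h2 : F * y * F⁻¹ = W ^ n * y := by
    rw [hn]
    calc F * y * F⁻¹ = q⁻¹ * (q * F * y) * F⁻¹ := by group
      _ = _ := by rw [← h]; group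
  obtain ⟨i, j, u, l, m, rfl⟩ := hy
  obtain ⟨v, -, he⟩ := exists_code i j u l m
  rw [he] at h2 ⊢
  unfold nv at h2 ⊢
  generalize d0 v = a at *
  generalize d1 v = b at *
  generalize d2 v = c at *
  generalize d3 v = d at *
  obtain ⟨m', h3⟩ := stepF a b c d m
  have h4 : W ^ n = nf W A B C₁ D 0 0 0 0 n := by
    show _ = A ^ (0 : ℤ) * B ^ (0 : ℤ) * C₁ ^ (0 : ℤ) * D ^ (0 : ℤ) * W ^ n
    rw [zpow_zero, zpow_zero, zpow_zero, zpow_zero, one_mul, one_mul, one_mul, one_mul]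
  rw [h3, h4, ext.nf_mul] at h2
  obtain ⟨k1, k2, k3, k4⟩ := nf_inj h2
  push_cast at k1 k2 k3 k4
  refine ⟨⟨d % 5, Nat.mod_lt _ (by norm_num)⟩, ⟨(m % 5).toNat, by omega⟩, ?_⟩
  have h5 : nf W A B C₁ D a b c d m = nf W A B C₁ D (4 * (d % 5 : ℕ)) (4 * (d % 5 : ℕ)) 0 (d % 5 : ℕ) m :=
    nf_mod (by push_cast; omega) (by push_cast; omega) (by omega) (by push_cast; omega)
  rw [h5]
  exact congrArg (A ^ _ * B ^ _ * C₁ ^ _ * D ^ _ * ·) (zpow_eq e_w5 (i := m) (j := ((m % 5).toNat : ℕ)) (by omega))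

theorem cent_out {w : G} (hw : w ∈ P) (hq : w ∉ ext.Q) : Nat.card ↥(P ⊓ centralizer {w}) ≤ 125 := by
  obtain ⟨q, hq0, s, rfl⟩ := hw
  have h5 : ¬ (5 : ℤ) ∣ s := fun h5 => hq (by
    rw [zpow_eq F5 (i := s) (j := 0) (by simpa using h5), zpow_zero, mul_one]
    exact hq0)
  obtain ⟨t, ht⟩ : ∃ t : ℕ, (5 : ℤ) ∣ s * t - 1 := by
    have h4 : s % 5 = 1 ∨ s % 5 = 2 ∨ s % 5 = 3 ∨ s % 5 = 4 := by omega
    rcases h4 with h | h | h | h
    · exact ⟨1, by push_cast; omega⟩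
    · exact ⟨3, by push_cast; omega⟩
    · exact ⟨2, by push_cast; omega⟩
    · exact ⟨4, by push_cast; omega⟩
  obtain ⟨q', hq', he⟩ := pow_form hq0 s t
  rw [zpow_eq F5 (i := s * t) (j := 1) ht, zpow_one] at he
  let f : Fin 5 × Fin 5 × Fin 5 → G := fun v =>
    nf W A B C₁ D (4 * (v.1 : ℕ)) (4 * (v.1 : ℕ)) 0 (v.1 : ℕ) (v.2.1 : ℕ) * (q' * F) ^ (v.2.2 : ℕ)
  have hs : ((P ⊓ centralizer {q * F ^ s} : Subgroup G) : Set G) ⊆ f '' Set.univ := by
    rintro _ ⟨⟨y, hy, a, rfl⟩, hc⟩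
    have h1 : Commute (y * F ^ a) (q' * F) := by
      rw [← he]
      exact (show Commute (y * F ^ a) (q * F ^ s) from mem_centralizer_singleton_iff.1 hc).pow_right t
    obtain ⟨r, hr, h2⟩ := pow_form hq' 1 (a % 5).toNat
    rw [zpow_one, one_mul, ← zpow_eq F5 (i := a) (by omega)] at h2
    have h3 : y * F ^ a = y * r⁻¹ * (q' * F) ^ (a % 5).toNat := by rw [h2]; group
    have h4 : Commute (y * r⁻¹) (q' * F) := by
      have h6 : y * r⁻¹ = y * F ^ a * ((q' * F) ^ (a % 5).toNat)⁻¹ := by rw [h3]; group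
      rw [h6]
      exact h1.mul_left ((Commute.refl _).pow_left _).inv_left
    obtain ⟨l, m, h6⟩ := cent_Q hq' (mul_mem hy (inv_mem hr)) h4.eq
    exact ⟨(l, m, ⟨(a % 5).toNat, by omega⟩), Set.mem_univ _, by rw [h3, h6]⟩
  rw [← SetLike.coe_sort_coe, Nat.card_coe_set_eq]
  refine (Set.ncard_le_ncard hs (Set.finite_univ.image f)).trans ((Set.ncard_image_le Set.finite_univ).trans ?_)
  rw [Set.ncard_univ, Nat.card_prod, Nat.card_prod, Nat.card_fin]

theorem pow_le {X : Subgroup G} {n : ℕ} (h : Nat.card X = 5 ^ n) : n ≤ 6 := by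
  have h1 := card_subgroup_dvd_card X
  rw [h, cardG] at h1
  by_contra h2
  exact absurd ((pow_dvd_pow 5 (show 7 ≤ n by omega)).trans h1) (by norm_num)

theorem card_P : Nat.card P = 5 ^ 6 := by
  have := finG
  have f5 : Fact (Nat.Prime 5) := ⟨by norm_num⟩
  obtain ⟨n, hn⟩ := IsPGroup.iff_card.1 isPGroup_P
  have h1 := pow_le hn
  have h2 : 5 ^ 6 ∣ Nat.card P * P.index := by rw [P.card_mul_index, cardG]; norm_num
  have h3 := (Nat.Coprime.pow_left 6 ((Nat.Prime.coprime_iff_not_dvd f5.out).2 index_P)).dvd_of_dvd_mul_right h2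
  rw [hn] at h3 ⊢
  rw [le_antisymm h1 ((Nat.pow_dvd_pow_iff_le_right (by norm_num)).1 h3)]

theorem card_Q : Nat.card ext.Q ≤ 5 ^ 5 := by
  have := finG
  have f5 : Fact (Nat.Prime 5) := ⟨by norm_num⟩
  obtain ⟨n, hn⟩ := IsPGroup.iff_card.1 (ext.isPGroup (by decide))
  have h2 : Nat.card ↥ext.Q < Nat.card ↥P :=
    Set.ncard_lt_ncard (lt_of_le_of_ne Q_le_P fun h => F_not (h ▸ F_mem_P) : ext.Q < P) (Set.toFinite _)
  rw [card_P, hn] at h2
  rw [hn]
  exact Nat.pow_le_pow_right (by norm_num) (Nat.lt_succ_iff.1 ((Nat.pow_lt_pow_iff_right (by norm_num)).1 h2))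

theorem exists_conj {X : Subgroup G} (hX : IsPGroup 5 X) : ∃ g : G, ∀ x ∈ X, g * x * g⁻¹ ∈ P := by
  have := finG
  have f5 : Fact (Nat.Prime 5) := ⟨by norm_num⟩
  obtain ⟨R, hR⟩ := hX.exists_le_sylow
  obtain ⟨g, hg⟩ := MulAction.exists_smul_eq G R (isPGroup_P.toSylow index_P)
  have h2 : (R : Subgroup G).map (MulAut.conj g).toMonoidHom = P :=
    congrArg (fun S : Sylow 5 G => (S : Subgroup G)) hg
  exact ⟨g, fun x hx => h2 ▸ ⟨x, hR hx, rfl⟩⟩

/-- abelian 5-subgroups -/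
theorem card_ab {X : Subgroup G} (hX : IsPGroup 5 X) (hab : ∀ x ∈ X, ∀ y ∈ X, x * y = y * x) : Nat.card X ≤ 125 := by
  have := finG
  obtain ⟨g, hg⟩ := exists_conj hX
  rw [← card_map_of_injective (f := (MulAut.conj g).toMonoidHom) (MulAut.conj g).injective]
  generalize hY : X.map (MulAut.conj g).toMonoidHom = Y
  have h1 : Y ≤ P := by
    rw [← hY]
    rintro _ ⟨r, hr, rfl⟩
    exact hg r hr
  have h2 : ∀ x ∈ Y, ∀ y ∈ Y, x * y = y * x := by
    rw [← hY]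
    rintro _ ⟨x, hx, rfl⟩ _ ⟨y, hy, rfl⟩
    rw [← map_mul, hab x hx y hy, map_mul]
  by_cases h : Y ≤ ext.Q
  · have h3 := card_mul_le (by norm_num : Nat.Prime 5) ext.hw ext.comm_w ext.commutator_mem
      (fun s hs h => ext.center hs h) h h h2
    have h4 : Nat.card Y * Nat.card Y ≤ 125 * 125 := h3.trans (Nat.mul_le_mul_left 5 card_Q)
    exact Nat.mul_self_le_mul_self_iff.1 h4
  · obtain ⟨w, hw, hq⟩ := SetLike.not_le_iff_exists.1 h
    exact (card_le_of_le fun y hy => mem_inf.2 ⟨h1 hy, mem_centralizer_singleton_iff.2 (h2 y hy w hw)⟩).trans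
      (cent_out (h1 hw) hq)

/-- a Sylow 5-subgroup with a generator of its centre -/
structure Syl (S : Subgroup G) (z : G) : Prop where
  card : Nat.card S = 5 ^ 6
  oz : orderOf z = 5
  cz : ∀ s ∈ S, s * z = z * s
  alt : ∀ w ∈ S, w ∉ zpowers z →
    (∃ x ∈ S, ∃ j : ℤ, ¬ ((5 : ℕ) : ℤ) ∣ j ∧ x * w * x⁻¹ = w * z ^ j) ∨ Nat.card ↥(S ⊓ centralizer {w}) ≤ 125

theorem syl_P : Syl P W where
  card := card_P
  oz := ext.hw
  cz := by
    rintro _ ⟨q, hq, s, rfl⟩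
    exact ((show Commute q W from ext.comm_w q hq).mul_left ((show Commute F W from FW).zpow_left s)).eq
  alt := by
    intro w hw hz
    by_cases hq : w ∈ ext.Q
    · left
      obtain ⟨x, h1⟩ := not_forall.1 fun h : ∀ y ∈ ext.Q, w * y = y * w => hz (ext.center hq h)
      obtain ⟨hx, h2⟩ := Classical.not_imp.1 h1
      obtain ⟨j, hj⟩ := mem_zpowers_iff.1 (ext.commutator_mem x hx w hq)
      have h3 : x * w * x⁻¹ = w * W ^ j := by
        rw [((show Commute w W from ext.comm_w w hq).zpow_right j).eq, hj]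
        group
      refine ⟨x, Q_le_P hx, j, fun h => h2 ?_, h3⟩
      rw [zpow_eq e_w5 (i := j) (j := 0) (by simpa using h), zpow_zero, mul_one, mul_inv_eq_iff_eq_mul] at h3
      exact h3.symm
    · exact Or.inr (cent_out hw hq)

theorem Syl.map {S : Subgroup G} {z : G} (h : Syl S z) (e : G ≃* G) : Syl (S.map e.toMonoidHom) (e z) where
  card := by rw [card_map_of_injective e.injective, h.card]
  oz := by rw [e.orderOf_eq, h.oz]
  cz := by
    rintro _ ⟨s, hs, rfl⟩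
    exact ((show Commute s z from h.cz s hs).map e).eq
  alt := by
    rintro _ ⟨w, hw, rfl⟩ hz
    have := finG
    rcases h.alt w hw (fun h1 => hz (by
      obtain ⟨j, rfl⟩ := mem_zpowers_iff.1 h1
      exact mem_zpowers_iff.2 ⟨j, (map_zpow e z j).symm⟩)) with ⟨x, hx, j, hj, h1⟩ | h1
    · exact Or.inl ⟨e x, ⟨x, hx, rfl⟩, j, hj, by simpa using congrArg e h1⟩
    · refine Or.inr (le_trans ?_ h1)
      rw [← card_map_of_injective (f := e.toMonoidHom) (K := S ⊓ centralizer {w}) e.injective]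
      refine card_le_of_le ?_
      rintro _ ⟨⟨s, hs, rfl⟩, hc⟩
      refine ⟨s, ⟨hs, mem_centralizer_singleton_iff.2 (e.injective ?_)⟩, rfl⟩
      rw [map_mul, map_mul]
      exact mem_centralizer_singleton_iff.1 hc

theorem exists_syl {X : Subgroup G} (hX : IsPGroup 5 X) : ∃ S z, Syl S z ∧ X ≤ S := by
  obtain ⟨g, hg⟩ := exists_conj hX
  exact ⟨_, _, syl_P.map (MulAut.conj g⁻¹), fun x hx => ⟨_, hg x hx, by simp [mul_assoc]⟩⟩

end Cfsg.Agent.SB.SporD.HN.F5
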