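import Cfsg.Agent.SB.SporD.HN0
import Cfsg.Agent.H653.HNE.Pairs

/-!
# S5765, the row `HN`: the involutions of `C(W0) = 2^(1+8).(A5 × A5).2` (helper26)
-/

set_option autoImplicit false
set_option maxRecDepth 100000

namespace Cfsg.Agent.SB.SporD.HN

open Subgroup Cfsg Cfsg.Agent.SB.Mon
open Cfsg.Agent.HN.XWords (W0)
open Cfsg.Agent.KFacts.HN
open Cfsg.Agent.H653.HNE
open Cfsg.Agent.ThType.CSideModel (ι nmul ι_nmul ι_zero ι_z)

/-- the class 2A -/
def A (x : G) : Prop := IsConj tA x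

/-- the class 2B -/
def B (x : G) : Prop := IsConj W0 x

theorem A_conj {x : G} (g : G) : A (g * x * g⁻¹) ↔ A x := isConj_conj_iff g

theorem B_conj {x : G} (g : G) : B (g * x * g⁻¹) ↔ B x := isConj_conj_iff g

theorem not_A_B {x : G} (h : A x) (h' : B x) : False := not_tA_W0 (h.trans h'.symm)

theorem A.sq {x : G} (h : A x) : x * x = 1 := by
  have h2 := IsConj.pow 2 h
  rw [tA_sq, pow_two] at h2
  exact isConj_one_right.1 h2

theorem A.ne {x : G} (h : A x) : x ≠ 1 := fun e => tA_ne (isConj_one_left.1 (e ▸ h))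

theorem B.sq {x : G} (h : B x) : x * x = 1 := by
  have h2 := IsConj.pow 2 h
  rw [W0_sq', pow_two] at h2
  exact isConj_one_right.1 h2

theorem B.ne {x : G} (h : B x) : x ≠ 1 := fun e => W0_ne (isConj_one_left.1 (e ▸ h))

theorem order_two {H : Type*} [Group H] {x : H} (h : x * x = 1) (h1 : x ≠ 1) : orderOf x = 2 :=
  orderOf_eq_prime (by rwa [pow_two]) h1

theorem inv_cases {x : G} (h : x * x = 1) (h1 : x ≠ 1) : A x ∨ B x :=
  (Classes.inv_class (order_two h h1)).imp IsConj.symm IsConj.symm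

theorem A.cent {x : G} (h : A x) : Nat.card (centralizer ({x} : Set G)) = 177408000 :=
  (card_cent_of_isConj h).symm.trans Classes.card_centralizer_τ

theorem B.cent {x : G} (h : B x) : Nat.card (centralizer ({x} : Set G)) = 3686400 :=
  (card_cent_of_isConj h).symm.trans card_PP

theorem card_cent_aut (α : MulAut G) (x : G) :
    Nat.card (centralizer ({α x} : Set G)) = Nat.card (centralizer ({x} : Set G)) := by
  refine (Nat.card_congr (Equiv.subtypeEquiv α.toEquiv fun g => ?_)).symm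
  rw [mem_centralizer_singleton_iff, mem_centralizer_singleton_iff]
  exact ⟨fun h => by simpa using congrArg α h, fun h => α.injective (by simpa using h)⟩

theorem A.aut {x : G} (h : A x) (α : MulAut G) : A (α x) := by
  refine (inv_cases (by rw [← map_mul, h.sq, map_one]) fun e => h.ne (α.injective (by rw [e, map_one]))).resolve_right
    fun h' => ?_
  have h1 := h'.cent
  rw [card_cent_aut, h.cent] at h1
  omega

theorem B.aut {x : G} (h : B x) (α : MulAut G) : B (α x) := by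
  refine (inv_cases (by rw [← map_mul, h.sq, map_one]) fun e => h.ne (α.injective (by rw [e, map_one]))).resolve_left
    fun h' => ?_
  have h1 := h'.cent
  rw [card_cent_aut, h.cent] at h1
  omega

/-- a 2-subgroup centralizes an involution of the class 2B -/
theorem exists_B {X : Subgroup G} (hX : IsPGroup 2 X) : ∃ z, B z ∧ ∀ x ∈ X, x * z = z * x := by
  obtain ⟨S, hS⟩ := hX.exists_le_sylow
  obtain ⟨z, h1, -, h2, -⟩ := Classes.sylow_center S
  exact ⟨z, h1, fun x hx => h2 x (hS hx)⟩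

/-! ### codes -/

/-- the element `ι n * y i` -/
noncomputable abbrev E (i n : ℕ) : G := ι W0 bx n * wv (rp i)

theorem E_mem (i n : ℕ) : E i n ∈ PP := mul_mem (ι_mem_PP n) (wv_mem _)

theorem ρ_E {i : ℕ} (hi : i < 5) (n : ℕ) : ρ ⟨E i n, E_mem i n⟩ = e (rp i) := ρ_el hi n

theorem E_zero (n : ℕ) : E 0 n = ι W0 bx n := mul_one _

theorem mul_E (m i n : ℕ) : ι W0 bx m * E i n = E i (nmul m n % 512) := by
  rw [E, E, ι_mod, ι_nmul basis, mul_assoc]

theorem E_W0 (i n : ℕ) : E i n * W0 = E i (nmul 256 n % 512) := by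
  rw [← mul_E, ι_z, mem_PP.1 (E_mem i n)]

theorem rp_ne {i : ℕ} (hi : i < 5) (h0 : i ≠ 0) : e (rp i) ≠ 1 := fun h =>
  h0 (rp_inj hi (by norm_num) (by rw [h, show e (rp 0) = 1 from e_nil]))

theorem E_notRS {i : ℕ} (hi : i < 5) (h0 : i ≠ 0) (n : ℕ) : E i n ∉ RS := fun h =>
  rp_ne hi h0 (by rw [← ρ_E hi n]; exact (mem_RS_iff _).1 h)

theorem E3_MM (n : ℕ) : E 3 n ∈ MM := mem_MM.2 ⟨E_mem 3 n, by rw [ρ_E (by norm_num)]; exact e11_mem⟩

theorem E2_notMM (n : ℕ) : E 2 n ∉ MM := by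
  intro h
  obtain ⟨h1, h2⟩ := mem_MM.1 h
  rw [ρ_E (by norm_num), show rp 2 = [0] ++ ([1] ++ ([0] ++ [1, 1])) from rfl, e_append, e_append, e_append,
    mul_mem_cancel_left e0_mem, mul_mem_cancel_right (mul_mem e0_mem e11_mem)] at h2
  exact e1_notMem h2

/-- the involutions of `PP` -/
theorem rep {u : G} (hu : u ∈ PP) (h2 : u * u = 1) : ∃ d ∈ PP, ∃ i, (i = 0 ∨ i = 2 ∨ i = 3) ∧ ∃ n < 512,
    d * u * d⁻¹ = E i n ∧ s2 (LT i) (pp i) n = 0 := by
  have h1 : ρ ⟨u, hu⟩ ^ 2 = 1 := by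
    rw [← map_pow, ← map_one ρ]
    exact congrArg ρ (Subtype.ext (by rw [pow_two]; exact h2))
  obtain ⟨c, i, hi, h⟩ := to_rep (u := ρ ⟨u, hu⟩) (by rw [show (8 : ℕ) = 2 * 4 from rfl, pow_mul, h1, one_pow])
  obtain ⟨d, hd, q, hq, h3⟩ := to_coset hu h
  obtain ⟨n, hn, rfl⟩ := exists_code hq
  rw [← wv_Γ (okg_rp hi)] at h3
  have h4 : E i n ^ 2 = 1 := by rw [E, ← h3, conj_pow, pow_two, h2]; group
  have h5 : i ≠ 4 := fun h => sq_4_ne n (h ▸ h4)
  have h6 : i ≠ 1 := by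
    rintro rfl
    rcases cover hi hn h4 (fun h => E_notRS hi one_ne_zero n (by rw [show E 1 n = 1 from h]; exact one_mem _))
      with h | h <;> exact Bool.false_ne_true ((Nat.zero_testBit n).symm.trans h)
  refine ⟨d, hd, i, by omega, n, hn, h3, one_of_code (s2_lt (by omega) hn) ?_⟩
  rw [← sq_i (by omega)]
  exact h4

theorem conj_iff {H : Subgroup G} {d x : G} (hd : d ∈ PP) (h : ∀ u ∈ PP, ∀ y ∈ H, u * y * u⁻¹ ∈ H) :
    d * x * d⁻¹ ∈ H ↔ x ∈ H :=
  ⟨fun h1 => by simpa [mul_assoc] using h _ (inv_mem hd) _ h1, h d hd x⟩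

theorem RS_iff {d x : G} (hd : d ∈ PP) : d * x * d⁻¹ ∈ RS ↔ x ∈ RS := conj_iff hd fun _ a _ b => conj_RS a b

theorem MM_iff {d x : G} (hd : d ∈ PP) : d * x * d⁻¹ ∈ MM ↔ x ∈ MM := conj_iff hd fun _ a _ b => conj_MM a b

theorem conj_W0 {d : G} (hd : d ∈ PP) (u : G) : d * (u * W0) * d⁻¹ = d * u * d⁻¹ * W0 := by
  rw [mul_assoc _ d⁻¹, mem_PP.1 (inv_mem hd)]; group

theorem chk0 : allN 512 (fun n => (m2A 0).testBit n == (m2A 0).testBit (nmul 256 n % 512)) = true := by decide +kernel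

theorem chk2 : allN 512 (fun n => or (not (Nat.beq (s2 (LT 2) (pp 2) n) 0))
    ((m2A 2).testBit n != (m2A 2).testBit (nmul 256 n % 512))) = true := by decide +kernel

theorem lt512 (n : ℕ) : n % 512 < 512 := Nat.mod_lt _ (by norm_num)

theorem A_E {i n : ℕ} (hi : i < 5) (hn : n < 512) : A (E i n) ↔ (m2A i).testBit n = true := is2A hi hn

theorem B_E {i n : ℕ} (hi : i < 5) (hn : n < 512) : B (E i n) ↔ (m2B i).testBit n = true := is2B hi hn

theorem not_A3 {n : ℕ} (hn : n < 512) : ¬ A (E 3 n) := by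
  rw [A_E (by norm_num) hn]
  exact fun h => Bool.false_ne_true ((Nat.zero_testBit n).symm.trans h)

/-- the subgroup of index two -/
theorem MM_iff_A {u : G} (hu : u ∈ PP) (h2 : u * u = 1) : u ∈ MM ↔ (A u ↔ A (u * W0)) := by
  obtain ⟨d, hd, i, hi, n, hn, h, hs⟩ := rep hu h2
  rw [← MM_iff hd, ← A_conj d, ← A_conj (x := u * W0) d, conj_W0 hd, h, E_W0]
  rcases hi with rfl | rfl | rfl
  · refine iff_of_true (RS_le_MM (E_zero n ▸ ι_mem n)) ?_
    rw [A_E (by norm_num) hn, A_E (by norm_num) (lt512 _), beq_iff_eq.1 ((allN_iff _ _).1 chk0 n hn)]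
  · refine iff_of_false (E2_notMM n) ?_
    have h1 := (allN_iff _ _).1 chk2 n hn
    rw [hs, Nat.beq_refl, Bool.not_true, Bool.false_or, bne_iff_ne] at h1
    rw [A_E (by norm_num) hn, A_E (by norm_num) (lt512 _)]
    exact fun h => h1 (Bool.eq_iff_iff.2 h)
  · exact iff_of_true (E3_MM n) (iff_of_false (not_A3 hn) (not_A3 (lt512 _)))

theorem RS_of_A {u : G} (hu : u ∈ MM) (hA : A u) : u ∈ RS := by
  obtain ⟨d, hd, i, hi, n, hn, h, -⟩ := rep (MM_le_PP hu) hA.sq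
  rw [← RS_iff hd, h]
  rcases hi with rfl | rfl | rfl
  · exact E_zero n ▸ ι_mem n
  · exact absurd (h ▸ (MM_iff hd).2 hu) (E2_notMM n)
  · exact absurd (h ▸ (A_conj d).2 hA) (not_A3 hn)

/-! ### centralizers -/

theorem card_inf_conj {K : Type*} [Group K] [Finite K] {H H' : Subgroup K} {d : K} (u : K)
    (h : ∀ x ∈ H, d * x * d⁻¹ ∈ H') :
    Nat.card ↥(H ⊓ centralizer {u}) ≤ Nat.card ↥(H' ⊓ centralizer {d * u * d⁻¹}) := by
  refine Nat.card_le_card_of_injective (fun x => ⟨d * x * d⁻¹, h x x.2.1, mem_centralizer_singleton_iff.2 ?_⟩)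
    fun a b hab => Subtype.ext ?_
  · have h1 := mem_centralizer_singleton_iff.1 x.2.2
    calc d * x * d⁻¹ * (d * u * d⁻¹) = d * (x * u) * d⁻¹ := by group
      _ = _ := by rw [h1]; group
  · simpa using congrArg Subtype.val hab

/-- kernel and image -/
theorem card_le_ker_mul {K L : Type*} [Group K] [Finite K] [Group L] {H N : Subgroup K} (f : H →* L) {n : ℕ}
    (hk : ∀ x : H, f x = 1 → (x : K) ∈ N) (hr : Nat.card f.range ≤ n) : Nat.card H ≤ Nat.card N * n := by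
  rw [← f.ker.card_mul_index, index_ker]
  refine Nat.mul_le_mul (Nat.card_le_card_of_injective (fun x : f.ker => (⟨x.1, hk _ x.2⟩ : N)) fun a b hab =>
    Subtype.ext (Subtype.ext (congrArg (fun z : N => (z : K)) hab))) hr

theorem card_PP_inf {x : G} (hx : x ∈ PP) : Nat.card ↥(PP ⊓ centralizer {x}) ≤
    Nat.card ↥(RS ⊓ centralizer {x}) * Nat.card (centralizer ({ρ ⟨x, hx⟩} : Set Lq)) := by
  refine card_le_ker_mul (ρ.comp (inclusion inf_le_left)) (fun y hy => ⟨(mem_RS_iff y.2.1).2 hy, y.2.2⟩)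
    (card_le_of_le ?_)
  rintro _ ⟨y, rfl⟩
  rw [mem_centralizer_singleton_iff, MonoidHom.comp_apply, ← map_mul, ← map_mul]
  exact congrArg ρ (Subtype.ext (mem_centralizer_singleton_iff.1 y.2.2))

theorem card_RS_inf {i : ℕ} (hi : i < 5) (n : ℕ) :
    Nat.card ↥(RS ⊓ centralizer {E i n}) ≤ sumN 512 (fun m => b2n (cmt i n m)) := by
  rw [← card_bool]
  refine Nat.card_le_card_of_surjective (fun m => ⟨ι W0 bx m.1, ι_mem _,
    mem_centralizer_singleton_iff.2 ((cmt_iff hi n m.1.2).2 m.2).symm.eq⟩) ?_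
  rintro ⟨g, hg, hc⟩
  obtain ⟨m, hm, rfl⟩ := exists_code hg
  exact ⟨⟨⟨m, hm⟩, (cmt_iff hi n hm).1 (mem_centralizer_singleton_iff.1 hc).symm⟩, rfl⟩

theorem chkS : allN 512 (fun n => or (not (Nat.beq (s2 (LT 2) (pp 2) n) 0))
    (Nat.ble (sumN 512 (fun m => b2n (cmt 2 n m))) 32)) = true := by decide +kernel

theorem chkD : allN 512 (fun n => or (not (Nat.beq (s2 (LT 3) (pp 3) n) 0))
    (Nat.ble (sumN 512 (fun m => b2n (cmt 3 n m))) 16)) = true := by decide +kernel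

theorem card_cent_S : Nat.card (centralizer ({e (rp 2)} : Set Lq)) = 120 := by
  have h := card_conj (e (rp 2))
  rw [card_conj_S, card_Lq] at h
  omega

theorem card_swap {u : G} (hu : u ∈ PP) (h2 : u * u = 1) (hM : u ∉ MM) : Nat.card ↥(PP ⊓ centralizer {u}) ≤ 3840 := by
  obtain ⟨d, hd, i, hi, n, hn, h, hs⟩ := rep hu h2
  rw [← MM_iff hd, h] at hM
  rcases hi with rfl | rfl | rfl
  · exact absurd (RS_le_MM (E_zero n ▸ ι_mem n)) hM
  · refine (card_inf_conj (H' := PP) (d := d) u fun x hx => mul_mem (mul_mem hd hx) (inv_mem hd)).trans ?_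
    have h1 := (allN_iff _ _).1 chkS n hn
    rw [hs, Nat.beq_refl, Bool.not_true, Bool.false_or, Nat.ble_eq] at h1
    rw [h]
    refine (card_PP_inf (E_mem 2 n)).trans ?_
    rw [ρ_E (by norm_num), card_cent_S]
    exact Nat.mul_le_mul_right 120 ((card_RS_inf (by norm_num) n).trans h1)
  · exact absurd (E3_MM n) hM

theorem card_diag {u : G} (hu : u ∈ MM) (h2 : u * u = 1) (hR : u ∉ RS) : Nat.card ↥(PP ⊓ centralizer {u}) ≤ 512 ∧
    Nat.card ↥(RS ⊓ centralizer {u}) ≤ 16 ∧ Nat.card (centralizer ({ρ ⟨u, MM_le_PP hu⟩} : Set Lq)) = 32 := by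
  obtain ⟨d, hd, i, hi, n, hn, h, hs⟩ := rep (MM_le_PP hu) h2
  rcases hi with rfl | rfl | rfl
  · exact absurd ((RS_iff hd).1 (by rw [h, E_zero]; exact ι_mem n)) hR
  · exact absurd (h ▸ (MM_iff hd).2 hu) (E2_notMM n)
  · have h1 := (allN_iff _ _).1 chkD n hn
    rw [hs, Nat.beq_refl, Bool.not_true, Bool.false_or, Nat.ble_eq] at h1
    have h3 := (card_RS_inf (by norm_num) n).trans h1
    refine ⟨(card_inf_conj (H' := PP) (d := d) u fun x hx => mul_mem (mul_mem hd hx) (inv_mem hd)).trans ?_,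
      (card_inf_conj (H' := RS) (d := d) u fun x hx => conj_RS hd hx).trans (h ▸ h3), ?_⟩
    · rw [h]
      refine (card_PP_inf (E_mem 3 n)).trans ?_
      rw [ρ_E (by norm_num), card_cent_B]
      exact Nat.mul_le_mul_right 32 h3
    · rw [← card_cent_B, ← ρ_E (by norm_num) n]
      refine card_cent_of_isConj (isConj_iff.2 ⟨ρ ⟨d, hd⟩, ?_⟩)
      rw [← map_inv, ← map_mul, ← map_mul]
      exact congrArg ρ (Subtype.ext h)

/-! ### the extraspecial group -/

theorem sq_RS {x : G} (hx : x ∈ RS) : x * x = 1 ∨ x * x = W0 := by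
  obtain ⟨n, hn, rfl⟩ := exists_code hx
  have h : allN 512 (fun n => or (Nat.beq (nmul n n) 0) (Nat.beq (nmul n n) 256)) = true := by decide +kernel
  have h1 := (allN_iff _ _).1 h n hn
  rw [Bool.or_eq_true, Nat.beq_eq, Nat.beq_eq] at h1
  rw [← ι_nmul basis]
  rcases h1 with h1 | h1 <;> rw [h1]
  exacts [Or.inl ι_zero, Or.inr ι_z]

theorem comm_RS : ∀ x ∈ RS, ∀ y ∈ RS, x * y * x⁻¹ * y⁻¹ ∈ zpowers W0 := by
  intro x hx y hy
  have hz : ∀ v ∈ RS, v * v ∈ zpowers W0 := fun v hv => by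
    rcases sq_RS hv with h | h <;> rw [h]
    exacts [one_mem _, mem_zpowers _]
  have hc : ∀ v ∈ RS, ∀ w ∈ RS, w * (v * v) = v * v * w := fun v hv w hw => by
    rcases sq_RS hv with h | h <;> rw [h]
    · rw [mul_one, one_mul]
    · exact mem_PP.1 (RS_le_PP hw)
  have h1 : x * y * x⁻¹ * y⁻¹ = x * y * (x * y) * (x * x)⁻¹ * (y * y)⁻¹ := by
    calc x * y * x⁻¹ * y⁻¹ = x * y * x * ((x * x)⁻¹ * y) * (y * y)⁻¹ := by group
      _ = x * y * x * (y * (x * x)⁻¹) * (y * y)⁻¹ := by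
        rw [show (x * x)⁻¹ * y = y * (x * x)⁻¹ from (show Commute y (x * x) from hc x hx y hy).inv_right.symm.eq]
      _ = _ := by group
  rw [h1]
  exact mul_mem (mul_mem (hz _ (mul_mem hx hy)) (inv_mem (hz x hx))) (inv_mem (hz y hy))

theorem cen_RS : ∀ s ∈ RS, (∀ m ∈ RS, s * m = m * s) → s ∈ zpowers W0 := fun s _ h => by
  rcases cent_RS h with h | h <;> rw [h]
  exacts [one_mem _, mem_zpowers _]

theorem card_mul_RS {X Y : Subgroup G} (hX : X ≤ RS) (hY : Y ≤ RS) (h : ∀ a ∈ X, ∀ b ∈ Y, a * b = b * a) :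
    Nat.card X * Nat.card Y ≤ 1024 := by
  have h1 := card_mul_le Nat.prime_two orderOf_W0 (fun g hg => mem_PP.1 (RS_le_PP hg)) comm_RS cen_RS hX hY h
  rwa [card_RS] at h1

/-! ### the quotient -/

theorem φ2_injective : Function.Injective φ2 := fun _ _ h => Prod.ext (φ2_inj h).1 (φ2_inj h).2

/-- `M → A5 × A5` -/
noncomputable def pr : MM →* A5 × A5 :=
  (MonoidHom.ofInjective φ2_injective).symm.toMonoidHom.comp
    ((ρ.comp (inclusion MM_le_PP)).codRestrict LL fun x => (mem_MM.1 x.2).2)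

theorem φ2_pr (x : MM) : φ2 (pr x) = ρ ⟨x, MM_le_PP x.2⟩ :=
  congrArg Subtype.val ((MonoidHom.ofInjective φ2_injective).apply_symm_apply _)

theorem RS_of_pr {x : MM} (h : pr x = 1) : (x : G) ∈ RS := (mem_RS_iff (MM_le_PP x.2)).2 (by rw [← φ2_pr, h, map_one])

/-- elementary abelian subgroups of `M` -/
theorem card_elab {X : Subgroup G} (hX : X ≤ MM) (h2 : ∀ x ∈ X, x * x = 1) (hc : ∀ x ∈ X, ∀ y ∈ X, x * y = y * x) :
    Nat.card X ≤ 64 ∧ (Nat.card X ≤ 32 ∨ ∃ u ∈ X, Nat.card ↥(PP ⊓ centralizer {u}) ≤ 512) := by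
  by_cases h : X ≤ RS
  · have h1 := card_mul_RS h h hc
    have h3 : Nat.card X ≤ 32 := by nlinarith
    exact ⟨by omega, Or.inl h3⟩
  obtain ⟨u, hu, huR⟩ := SetLike.not_le_iff_exists.1 h
  obtain ⟨h3, h4, -⟩ := card_diag (hX hu) (h2 u hu) huR
  refine ⟨?_, Or.inr ⟨u, hu, h3⟩⟩
  let f : X →* A5 := (MonoidHom.fst _ _).comp (pr.comp (inclusion hX))
  refine (card_le_ker_mul (N := RS ⊓ centralizer {u}) f (n := 4)
    (fun x hx => ⟨?_, mem_centralizer_singleton_iff.2 (hc x x.2 u hu)⟩) ?_).trans (by omega)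
  · by_contra hR
    have h5 := (card_diag (hX x.2) (h2 x x.2) hR).2.2
    have h6 : AA ≤ centralizer ({ρ ⟨x, MM_le_PP (hX x.2)⟩} : Set Lq) := by
      rintro _ ⟨a, rfl⟩
      rw [mem_centralizer_singleton_iff, ← φ2_pr ⟨x, hX x.2⟩, φ2_apply,
        show (pr ⟨x, hX x.2⟩).1 = 1 from hx, map_one, one_mul, comm_AB]
    have h7 := card_dvd_of_le h6
    rw [h5, show Nat.card AA = Nat.card A5 from (Nat.card_congr (MonoidHom.ofInjective φA_inj).toEquiv).symm,
      card_A5] at h7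
    omega
  · have h5 : IsPGroup 2 f.range := by
      rintro ⟨_, x, rfl⟩
      refine ⟨1, Subtype.ext ?_⟩
      show f x ^ 2 ^ 1 = 1
      rw [← map_pow, pow_one, pow_two, show x * x = 1 from Subtype.ext (h2 x x.2), map_one]
    obtain ⟨k, hk⟩ := IsPGroup.iff_card.1 h5
    have h6 := card_subgroup_dvd_card f.range
    rw [card_A5, hk] at h6
    rw [hk]
    by_contra h7
    have h8 : 3 ≤ k := by
      by_contra h9
      exact h7 (Nat.pow_le_pow_right (by norm_num) (by omega : k ≤ 2))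
    exact absurd ((pow_dvd_pow 2 h8).trans h6) (by norm_num)

theorem sol_A5 {Y : Subgroup A5} (hY : Group.IsSolvable Y) : Nat.card Y ≤ 12 := by
  have hc : ¬ IsMulCommutative A5 := SmallSimple.Embed.not_comm_of_card_not_prime (by rw [card_A5]; norm_num)
  have h1 := SmallSimple.Embed.five_le_index hc Y (by
    rintro rfl
    exact (as_top hc).not_solvable hY)
  have h2 := Y.card_mul_index
  rw [card_A5] at h2
  nlinarith

/-- solvable subgroups of `PP` -/
theorem sol_PP {H : Subgroup G} (hH : H ≤ PP) (hs : Group.IsSolvable H) : Nat.card H ≤ 147456 := by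
  have h1 : Nat.card H ≤ Nat.card ↥(H ⊓ MM) * 2 := by
    rw [← card_eq_mul_relIndex (inf_le_left : H ⊓ MM ≤ H), inf_relIndex_left, ← relIndex_MM]
    exact Nat.mul_le_mul_left _ (relIndex_le_of_le_right hH (by rw [relIndex_MM]; norm_num))
  have h2 : Group.IsSolvable ↥(H ⊓ MM) :=
    Group.isSolvable_of_isSolvable_injective (f := inclusion inf_le_left) (inclusion_injective _)
  let f : ↥(H ⊓ MM) →* A5 × A5 := pr.comp (inclusion inf_le_right)
  have h3 := card_le_ker_mul (N := RS) f (n := 12 * 12) (fun x hx => RS_of_pr hx) (by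
    have h4 : f.range ≤ (((MonoidHom.fst _ _).comp f).range).prod ((MonoidHom.snd _ _).comp f).range := by
      rintro _ ⟨x, rfl⟩
      exact ⟨⟨x, rfl⟩, ⟨x, rfl⟩⟩
    refine (card_le_of_le h4).trans ?_
    rw [Nat.card_congr (prodEquiv _ _).toEquiv, Nat.card_prod]
    exact Nat.mul_le_mul (sol_A5 (Group.isSolvable_of_surjective (MonoidHom.rangeRestrict_surjective _)))
      (sol_A5 (Group.isSolvable_of_surjective (MonoidHom.rangeRestrict_surjective _))))
  rw [card_RS] at h3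
  exact h1.trans (Nat.mul_le_mul_right 2 h3)

/-! ### pure subgroups of type 2A -/

theorem repA {u : G} (hu : u ∈ PP) (hA : A u) : ∃ d ∈ PP, d * u * d⁻¹ = E 0 1 ∨ d * u * d⁻¹ = E 2 6 := by
  obtain ⟨d, hd, i, hi, n, hn, h, -⟩ := rep hu hA.sq
  have h1 : A (E i n) := h ▸ (A_conj d).2 hA
  rcases hi with rfl | rfl | rfl
  · obtain ⟨c, hc, h2⟩ := orbit actI gI0 gensI orbI1 hn ((A_E (by norm_num) hn).1 h1)
    refine ⟨c⁻¹ * d, mul_mem (inv_mem hc) hd, Or.inl ?_⟩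
    calc c⁻¹ * d * u * (c⁻¹ * d)⁻¹ = c⁻¹ * (d * u * d⁻¹) * c := by group
      _ = c⁻¹ * (c * E 0 1 * c⁻¹) * c := by rw [h]; exact congrArg (fun t => c⁻¹ * t * c) h2.symm
      _ = _ := by group
  · obtain ⟨c, hc, h2⟩ := orbit actS [] gens0 orbS1 hn ((A_E (by norm_num) hn).1 h1)
    refine ⟨c⁻¹ * d, mul_mem (inv_mem hc) hd, Or.inr ?_⟩
    calc c⁻¹ * d * u * (c⁻¹ * d)⁻¹ = c⁻¹ * (d * u * d⁻¹) * c := by group
      _ = c⁻¹ * (c * E 2 6 * c⁻¹) * c := by rw [h]; exact congrArg (fun t => c⁻¹ * t * c) h2.symm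
      _ = _ := by group
  · exact absurd h1 (not_A3 hn)

/-- `ι m` and `ι m * E i n` are in the class 2A -/
def cand (i n m : ℕ) : Bool := and ((m2A 0).testBit m) ((m2A i).testBit (nmul m n % 512))

theorem cand_iff {i n m : ℕ} (hi : i < 5) (hm : m < 512) :
    cand i n m = true ↔ A (ι W0 bx m) ∧ A (ι W0 bx m * E i n) := by
  rw [cand, Bool.and_eq_true, mul_E, A_E hi (lt512 _), ← A_E (by norm_num) hm, E_zero]

/-- no pure subgroup of rank three -/
def rk (i n : ℕ) : Bool := allN 512 fun m => or (not (cand i n m)) (allN 512 fun k => or (not (cand i n k))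
  (not (cand i n (nmul m k % 512))))

theorem rk0 : rk 0 1 = true := by decide +kernel

theorem rk2 : rk 2 6 = true := by decide +kernel

theorem rank_core {a v w : G} (ha : a ∈ PP) (hv : v ∈ RS) (hw : w ∈ RS) (h1 : A a) (h2 : A v) (h3 : A w)
    (h4 : A (v * a)) (h5 : A (w * a)) (h6 : A (v * w)) (h7 : A (v * w * a)) : False := by
  obtain ⟨d, hd, h⟩ := repA ha h1
  obtain ⟨m, hm, e1⟩ := exists_code (conj_RS hd hv)
  obtain ⟨k, hk, e2⟩ := exists_code (conj_RS hd hw)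
  have key : ∀ i n, i < 5 → d * a * d⁻¹ = E i n → rk i n = true → False := by
    intro i n hi e hr
    have c : ∀ {x : G} {j : ℕ}, j < 512 → d * x * d⁻¹ = ι W0 bx j → A x → A (x * a) → cand i n j = true :=
      fun {x j} hj ex a1 a2 => (cand_iff hi hj).2 ⟨ex ▸ (A_conj d).2 a1, by
        rw [← ex, ← e, show d * x * d⁻¹ * (d * a * d⁻¹) = d * (x * a) * d⁻¹ by group]
        exact (A_conj d).2 a2⟩
    have r1 := (allN_iff _ _).1 hr m hm
    rw [c hm e1 h2 h4, Bool.not_true, Bool.false_or] at r1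
    have r2 := (allN_iff _ _).1 r1 k hk
    rw [c hk e2 h3 h5, c (lt512 _) (by rw [ι_mod, ι_nmul basis, ← e1, ← e2]; group) h6 h7] at r2
    exact absurd r2 (by decide)
  rcases h with h | h
  exacts [key 0 1 (by norm_num) h rk0, key 2 6 (by norm_num) h rk2]

theorem comm_of_sq {H : Type*} [Group H] {x y : H} (hx : x * x = 1) (hy : y * y = 1) (h : x * y * (x * y) = 1) :
    x * y = y * x := by
  rw [eq_inv_of_mul_eq_one_left h, mul_inv_rev, inv_eq_of_mul_eq_one_left hx, inv_eq_of_mul_eq_one_left hy]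

theorem mul_MM {u v : G} (hu : u ∈ PP) (hv : v ∈ PP) (h1 : u ∉ MM) (h2 : v ∉ MM) : u * v ∈ MM := by
  have h := (mul_mem_iff_of_index_two (H := MM.subgroupOf PP) relIndex_MM (a := ⟨u, hu⟩) (b := ⟨v, hv⟩)).2
    (iff_of_false h1 h2)
  exact h

/-- subgroups of `PP` all of whose non-trivial elements are in the class 2A -/
theorem card_pure {X : Subgroup G} (hX : X ≤ PP) (hA : ∀ x ∈ X, x ≠ 1 → A x) : Nat.card X ≤ 4 := by
  by_contra hc
  have h2 : ∀ x ∈ X, x * x = 1 := fun x hx => by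
    by_cases h : x = 1
    · rw [h, one_mul]
    · exact (hA x hx h).sq
  have hi : ∀ x ∈ X, x⁻¹ = x := fun x hx => inv_eq_of_mul_eq_one_left (h2 x hx)
  have hcm : ∀ x ∈ X, ∀ y ∈ X, x * y = y * x := fun x hx y hy =>
    comm_of_sq (h2 x hx) (h2 y hy) (h2 _ (mul_mem hx hy))
  have out : ∀ s : Finset G, s.card ≤ 4 → ∃ x ∈ X, x ∉ s := by
    intro s hs
    by_contra h
    push Not at h
    refine hc (le_trans ?_ hs)
    rw [← Nat.card_eq_finsetCard]
    exact Nat.card_le_card_of_injective (fun x : X => (⟨x, h x x.2⟩ : s)) fun a b e =>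
      Subtype.ext (congrArg (fun z : s => (z : G)) e)
  classical
  obtain ⟨a, ha, ha1, ha2⟩ : ∃ a ∈ X, a ≠ 1 ∧ ∀ x ∈ X, x ∈ MM ∨ x * a ∈ MM := by
    by_cases h : X ≤ MM
    · obtain ⟨a, ha, h1⟩ := out {1} (by simp)
      exact ⟨a, ha, by simpa using h1, fun x hx => Or.inl (h hx)⟩
    · obtain ⟨a, ha, h1⟩ := SetLike.not_le_iff_exists.1 h
      exact ⟨a, ha, fun e => h1 (e ▸ one_mem _), fun x hx => or_iff_not_imp_left.2 fun h3 => mul_MM (hX hx) (hX ha) h3 h1⟩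
  have fix : ∀ s : Finset G, s.card ≤ 4 → (∀ y ∈ s, y * a ∈ s) → ∃ x ∈ X, x ∉ s ∧ x ∈ MM := by
    intro s hs hsa
    obtain ⟨x, hx, h1⟩ := out s hs
    rcases ha2 x hx with h | h
    · exact ⟨x, hx, h1, h⟩
    · exact ⟨x * a, mul_mem hx ha, fun h3 => h1 (by simpa [mul_assoc, h2 a ha] using hsa _ h3), h⟩
  obtain ⟨v, hv, v1, v2⟩ := fix {1, a} (Finset.card_le_two.trans (by norm_num)) (by simp [h2 a ha])
  obtain ⟨w, hw, w1, w2⟩ := fix {1, a, v, v * a} Finset.card_le_four (by simp [h2 a ha, mul_assoc])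
  simp only [Finset.mem_insert, Finset.mem_singleton, not_or] at v1 w1
  have ne : ∀ x ∈ X, ∀ y ∈ X, y ≠ x → A (x * y) := fun x hx y hy h => hA _ (mul_mem hx hy) fun e =>
    h (by rw [← hi x hx]; exact eq_inv_of_mul_eq_one_right e)
  refine rank_core (hX ha) (RS_of_A v2 (hA v hv v1.1)) (RS_of_A w2 (hA w hw w1.1)) (hA a ha ha1) (hA v hv v1.1)
    (hA w hw w1.1) (ne v hv a ha (Ne.symm v1.2)) (ne w hw a ha (Ne.symm w1.2.1)) (ne v hv w hw w1.2.2.1) ?_
  rw [mul_assoc, hcm w hw a ha, ← mul_assoc]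
  exact ne _ (mul_mem hv ha) w hw w1.2.2.2

theorem chkZ : allN 512 (fun m => or (not (cand 2 6 m)) (not (allN 512 fun k => not (and ((m2B 0).testBit k)
    (and (cmt 2 6 k) (and (cmt 0 m k) (and ((m2A 0).testBit (nmul k m % 512))
      ((m2A 2).testBit (nmul k 6 % 512))))))))) = true := by decide +kernel

theorem RS_of_B {z u : G} {g : G} (hg : g * z * g⁻¹ = W0) (hc : z * u = u * z) (h1 : A u) (h2 : A (z * u)) :
    g * u * g⁻¹ ∈ RS := by
  have h3 : g * u * g⁻¹ ∈ PP := by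
    rw [mem_PP, ← hg]
    calc g * u * g⁻¹ * (g * z * g⁻¹) = g * (u * z) * g⁻¹ := by group
      _ = _ := by rw [← hc]; group
  have h4 := (A_conj g).2 h1
  refine RS_of_A ((MM_iff_A h3 h4.sq).2 (iff_of_true h4 ?_)) h4
  rw [← hg, show g * u * g⁻¹ * (g * z * g⁻¹) = g * (u * z) * g⁻¹ by group, ← hc]
  exact (A_conj g).2 h2

theorem swap_core {a v : G} (ha : a ∈ PP) (haM : a ∉ MM) (hv : v ∈ RS) (h1 : A a) (h2 : A v) (h4 : A (v * a)) :
    ∃ g : G, g * a * g⁻¹ ∈ RS ∧ g * v * g⁻¹ ∈ RS := by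
  obtain ⟨d, hd, h⟩ := repA ha h1
  have e := h.resolve_left fun h => haM ((MM_iff hd).1 (by rw [h, E_zero]; exact RS_le_MM (ι_mem _)))
  obtain ⟨m, hm, e1⟩ := exists_code (conj_RS hd hv)
  have a1 : A (ι W0 bx m) := e1 ▸ (A_conj d).2 h2
  have r1 := (allN_iff _ _).1 chkZ m hm
  rw [(cand_iff (by norm_num) hm).2 ⟨a1, by
    rw [← e1, ← e, show d * v * d⁻¹ * (d * a * d⁻¹) = d * (v * a) * d⁻¹ by group]
    exact (A_conj d).2 h4⟩, Bool.not_true, Bool.false_or, Bool.not_eq_true', ← Bool.not_eq_true,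
    H653.HNE.allN_iff] at r1
  push Not at r1
  obtain ⟨k, hk, r2⟩ := r1
  rw [ne_eq, Bool.not_eq_true, Bool.not_eq_false'] at r2
  simp only [Bool.and_eq_true] at r2
  obtain ⟨b1, b2, b3, b4, b5⟩ := r2
  obtain ⟨g, hg⟩ := isConj_iff.1 ((is2B_code hk).2 b1).symm
  have c1 := RS_of_B (u := E 2 6) hg ((cmt_iff (by norm_num) 6 hk).2 b2).symm.eq (e ▸ (A_conj d).2 h1)
    (by rw [mul_E]; exact (A_E (by norm_num) (lt512 _)).2 b5)
  have c2 := RS_of_B (u := E 0 m) hg ((cmt_iff (by norm_num) m hk).2 b3).symm.eq (E_zero m ▸ a1)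
    (by rw [mul_E]; exact (A_E (by norm_num) (lt512 _)).2 b4)
  rw [E_zero, ← e1] at c2
  refine ⟨g * d, ?_, ?_⟩
  · rwa [show g * d * a * (g * d)⁻¹ = g * (d * a * d⁻¹) * g⁻¹ by group, e]
  · rwa [show g * d * v * (g * d)⁻¹ = g * (d * v * d⁻¹) * g⁻¹ by group]

/-- a pure four-group is conjugate to a subgroup of the extraspecial group -/
theorem four_RS {u v : G} (hu : u ∈ PP) (hv : v ∈ PP) (h1 : A u) (h2 : A v) (h3 : A (u * v)) :
    ∃ g : G, g * u * g⁻¹ ∈ RS ∧ g * v * g⁻¹ ∈ RS := by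
  have hc := comm_of_sq h1.sq h2.sq h3.sq
  by_cases a : u ∈ MM <;> by_cases b : v ∈ MM
  · exact ⟨1, by simpa using RS_of_A a h1, by simpa using RS_of_A b h2⟩
  · obtain ⟨g, c1, c2⟩ := swap_core hv b (RS_of_A a h1) h2 h1 h3
    exact ⟨g, c2, c1⟩
  · exact swap_core hu a (RS_of_A b h2) h1 h2 (hc ▸ h3)
  · obtain ⟨g, c1, c2⟩ := swap_core hv b (RS_of_A (mul_MM hu hv a b) h3) h2 h3
      (by rwa [mul_assoc, h2.sq, mul_one])
    refine ⟨g, ?_, c1⟩
    have h4 := mul_mem c2 (inv_mem c1)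
    rwa [show g * (u * v) * g⁻¹ * (g * v * g⁻¹)⁻¹ = g * u * g⁻¹ by group] at h4

theorem ncard_A : {x : G | A x ∧ x ∈ PP}.ncard ≤ 1080 := by
  rw [← n2A, ← Nat.card_coe_set_eq]
  exact Nat.card_le_card_of_injective (fun x => ⟨⟨x.1, x.2.2⟩, x.2.1⟩) fun a b e =>
    Subtype.ext (congrArg (fun z : {x : PP // IsConj tA (x : G)} => (z.1 : G)) e)

theorem ncard_B : {x : G | B x ∧ x ∈ PP}.ncard ≤ 8311 := by
  rw [← n2B, ← Nat.card_coe_set_eq]
  exact Nat.card_le_card_of_injective (fun x => ⟨⟨x.1, x.2.2⟩, x.2.1⟩) fun a b e =>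
    Subtype.ext (congrArg (fun z : {x : PP // IsConj W0 (x : G)} => (z.1 : G)) e)

end Cfsg.Agent.SB.SporD.HN
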