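import Cfsg.Agent.SB.SporD.HNT

/-!
# S5765, the row `HN`: the case `O₂(R) ≠ 1` (helper26)

`X` is minimal among the invariant elementary abelian subgroups which contain an involution of the class 2B.  The
indicator of the class 2A is a quadratic form on `X`, which is zero or non-degenerate.
-/

set_option autoImplicit false

namespace Cfsg.Agent.SB.SporD.HN

open Subgroup Cfsg Cfsg.Agent.H786.FC Cfsg.Agent.SB.Mon Cfsg.Agent.SB.Spor

variable {R X : Subgroup G}

theorem comm2 (h2 : ∀ x ∈ X, x * x = 1) {x y : G} (hx : x ∈ X) (hy : y ∈ X) : x * y = y * x :=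
  comm_of_sq (h2 x hx) (h2 y hy) (h2 _ (mul_mem hx hy))

theorem conj_ne {K : Type*} [Group K] {x : K} (h : x ≠ 1) (s : K) : s * x * s⁻¹ ≠ 1 := fun e => h (conj_eq_one_iff.1 e)

/-- `X` is pure of type 2B -/
theorem two_pure (h5 : BoxC5) (hs : Group.IsSolvable R) (hn : ∀ r ∈ R, ∀ x ∈ X, r * x * r⁻¹ ∈ X)
    (h2 : ∀ x ∈ X, x * x = 1) (hB : ∀ x ∈ X, x ≠ 1 → B x) {z : G} (hz : z ∈ X) (z1 : z ≠ 1) : TwoOK R := by
  classical
  have := finG
  have f2 : Fact (Nat.Prime 2) := ⟨Nat.prime_two⟩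
  have nA : ∀ x ∈ X, ¬ A x := fun x hx h => not_A_B h (hB x hx h.ne)
  have el := fun w (hw : w ∈ X) (w1 : w ≠ 1) => elab_B (hB w hw w1) h2 (fun x hx => comm2 h2 hx hw)
    fun x hx => iff_of_false (nA x hx) (nA _ (mul_mem hw hx))
  obtain ⟨k, hk⟩ := IsPGroup.iff_card.1 (pgroup_of_sq h2)
  have h64 := (el z hz z1).1
  have hR : Nat.card R ≤ 2211840 := by
    rcases (el z hz z1).2 with h | ⟨u, hu, h⟩
    · have h1 := cls_mul_card R z
      rw [← card_clF] at h1
      have sub : ∀ v ∈ clF R z, v ∈ X ∧ v ≠ 1 := fun v hv => by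
        obtain ⟨x, hx, rfl⟩ := mem_clF.1 hv
        exact ⟨by simpa using hn _ (inv_mem hx) z hz, by simpa using conj_ne z1 x⁻¹⟩
      by_cases h15 : (clF R z).card ≤ 15
      · rw [← h1]
        exact (Nat.mul_le_mul (sol_B (hB z hz z1) hs) h15).trans (by norm_num)
      have h3 := ncard_ne_one X
      by_cases hall : ∀ v ∈ X, v ≠ 1 → v ∈ clF R z
      · exfalso
        have h4 : {v : G | v ∈ X ∧ v ≠ 1} = (clF R z : Set G) :=
          Set.ext fun v => ⟨fun hv => hall v hv.1 hv.2, fun hv => sub v hv⟩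
        rw [h4, Set.ncard_coe_finset, hk] at h3
        rw [hk] at h
        have h6 : k ≤ 5 := (Nat.pow_le_pow_iff_right (by norm_num : 1 < 2)).1 h
        have h7 : (clF R z).card = 31 := by interval_cases k <;> omega
        have h8 := (Dvd.intro_left _ h1).trans (card_subgroup_dvd_card R)
        rw [h7, cardG] at h8
        omega
      · push Not at hall
        obtain ⟨w, hw, w1, hw2⟩ := hall
        have h4 := card_le_orbit (S := R) (Z := {v : G | v ∈ X ∧ v ≠ 1} \ (clF R z : Set G)) (y := w) fun s hs' =>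
          ⟨⟨hn s hs' w hw, conj_ne w1 s⟩, fun hm => by
            obtain ⟨x, hx, e⟩ := mem_clF.1 hm
            refine hw2 (mem_clF.2 ⟨x * s, mul_mem hx hs', ?_⟩)
            rw [show (x * s)⁻¹ * z * (x * s) = s⁻¹ * (x⁻¹ * z * x) * s by group, e]
            group⟩
        rw [Set.ncard_sdiff (show (clF R z : Set G) ⊆ {v : G | v ∈ X ∧ v ≠ 1} from fun v hv => sub v hv), h3,
          Set.ncard_coe_finset] at h4
        exact h4.trans ((Nat.mul_le_mul (by omega : _ ≤ 15) (sol_B (hB w hw w1) hs)).trans (by norm_num))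
    · have h1 := card_le_of_conj (S := R) (Z := X) (y := z) fun s hs' => hn s hs' z hz
      have h3 := card_le_of_conj (S := R ⊓ centralizer {z}) (Z := X) (y := u) fun s hs' => hn s hs'.1 u hu
      have h4 := (card_le_of_le (inf_le_inf_right (centralizer {u}) (inf_le_right : R ⊓ centralizer {z} ≤ _))).trans h
      exact h1.trans ((Nat.mul_le_mul h64 (h3.trans (Nat.mul_le_mul h64 h4))).trans (by norm_num))
  have fx : ∀ t ∈ R, t * t = 1 → ∀ x ∈ X, t * (x * (t * x * t⁻¹)) = x * (t * x * t⁻¹) * t := by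
    intro t ht t2 x hx
    calc t * (x * (t * x * t⁻¹)) = t * x * t⁻¹ * (t * t * x) * (t * t)⁻¹ * t := by group
      _ = _ := by rw [t2, one_mul, comm2 h2 (hn t ht x hx) hx, inv_one, mul_one]
  have fy : ∀ t : G, ∀ x ∈ X, x * (t * x * t⁻¹) = 1 → t * x = x * t := fun t x hx e => by
    rw [← mul_inv_eq_iff_eq_mul, eq_inv_of_mul_eq_one_right e, inv_eq_of_mul_eq_one_left (h2 x hx)]
  by_cases h32 : Nat.card X ≤ 32
  · refine twoOK_of h5 hR {v | v ∈ X ∧ v ≠ 1} (fun v hv => hB v hv.1 hv.2) (by rw [ncard_ne_one]; omega)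
      fun t ht t2 => ?_
    by_cases e : z * (t * z * t⁻¹) = 1
    · exact ⟨z, ⟨hz, z1⟩, fy t z hz e⟩
    · exact ⟨_, ⟨mul_mem hz (hn t ht z hz), e⟩, fx t ht t2 z hz⟩
  · have h6 : k = 6 := by
      rw [hk] at h32 h64
      have h7 : k ≤ 6 := (Nat.pow_le_pow_iff_right (by norm_num : 1 < 2)).1 h64
      have h8 : 5 < k := (Nat.pow_lt_pow_iff_right (by norm_num : 1 < 2)).1 (not_le.1 h32)
      omega
    obtain ⟨Y, hY⟩ := Sylow.exists_subgroup_card_pow_prime (G := X) 2 (n := 5) (by rw [hk, h6]; norm_num)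
    have hi : Y.index = 2 := by
      have h7 := Y.card_mul_index
      rw [hY, hk, h6] at h7
      omega
    have hc : Nat.card (Y.map X.subtype) = 32 := by rw [card_map_of_injective X.subtype_injective, hY]; norm_num
    have hle : Y.map X.subtype ≤ X := map_subtype_le Y
    refine twoOK_of h5 hR {v | v ∈ Y.map X.subtype ∧ v ≠ 1} (fun v hv => hB v (hle hv.1) hv.2)
      (by rw [ncard_ne_one]; omega) fun t ht t2 => ?_
    by_contra hcon
    push Not at hcon
    have h7 : ∀ x ∈ Y.map X.subtype, x ≠ 1 → x * (t * x * t⁻¹) ∉ Y.map X.subtype := fun x hx x1 hm =>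
      hcon _ ⟨hm, fun e => hcon x ⟨hx, x1⟩ (fy t x (hle hx) e)⟩ (fx t ht t2 x (hle hx))
    obtain ⟨a, ha, b, hb, hab⟩ := (Set.one_lt_ncard (s := {v | v ∈ Y.map X.subtype ∧ v ≠ 1}) (Set.toFinite _)).1
      (by rw [ncard_ne_one]; omega)
    have a1 := hle ha.1
    have b1 := hle hb.1
    refine h7 (a * b) (mul_mem ha.1 hb.1) (fun e => hab ?_) ?_
    · exact (eq_inv_of_mul_eq_one_left e).trans (inv_eq_of_mul_eq_one_left (h2 b b1))
    · have h8 := (mul_mem_iff_of_index_two hi (a := ⟨_, mul_mem a1 (hn t ht a a1)⟩)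
        (b := ⟨_, mul_mem b1 (hn t ht b b1)⟩)).2 (iff_of_false (fun h => h7 a ha.1 ha.2 ⟨_, h, rfl⟩)
          fun h => h7 b hb.1 hb.2 ⟨_, h, rfl⟩)
      refine ⟨_, h8, ?_⟩
      show a * (t * a * t⁻¹) * (b * (t * b * t⁻¹)) = _
      rw [mul_assoc a, ← mul_assoc (t * a * t⁻¹), comm2 h2 (hn t ht a a1) b1]
      group

/-! ### the quadratic form -/

open Classical in
/-- the sign -/
noncomputable def sg (x : G) : ℤ := if A x then -1 else 1

/-- the form -/
noncomputable def bt (u v : G) : ℤ := sg u * sg v * sg (u * v)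

theorem sg_A {x : G} (h : A x) : sg x = -1 := if_pos h

theorem sg_nA {x : G} (h : ¬ A x) : sg x = 1 := if_neg h

theorem sg_cases (x : G) : sg x = 1 ∨ sg x = -1 := (em (A x)).symm.imp sg_nA sg_A

theorem sg_one : sg 1 = 1 := sg_nA fun h => h.ne rfl

theorem sg_B {x : G} (h : B x) : sg x = 1 := sg_nA fun h' => not_A_B h' h

theorem sg_aut (α : MulAut G) (x : G) : sg (α x) = sg x := by
  by_cases h : A x
  · rw [sg_A h, sg_A (h.aut α)]
  · rw [sg_nA h, sg_nA fun h' => h (by simpa using h'.aut α⁻¹)]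

theorem bt_aut (α : MulAut G) (u v : G) : bt (α u) (α v) = bt u v := by
  rw [bt, bt, ← map_mul, sg_aut, sg_aut, sg_aut]

theorem bt_cases (u v : G) : bt u v = 1 ∨ bt u v = -1 := by
  unfold bt
  rcases sg_cases u with a | a <;> rcases sg_cases v with b | b <;> rcases sg_cases (u * v) with c | c <;>
    rw [a, b, c] <;> norm_num

theorem bt_iff {z : G} (hz : B z) (u : G) : bt z u = 1 ↔ (A u ↔ A (z * u)) := by
  rw [bt, sg_B hz]
  by_cases a : A u <;> by_cases b : A (z * u)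
  · rw [sg_A a, sg_A b]; exact iff_of_true (by norm_num) (iff_of_true a b)
  · rw [sg_A a, sg_nA b]; exact iff_of_false (by norm_num) fun h => b (h.1 a)
  · rw [sg_nA a, sg_A b]; exact iff_of_false (by norm_num) fun h => a (h.2 b)
  · rw [sg_nA a, sg_nA b]; exact iff_of_true (by norm_num) (iff_of_false a b)

theorem sign_step {a b c d e f g : ℤ} (ha : a = 1 ∨ a = -1) (hf : f = 1 ∨ f = -1) (hc : c = 1 ∨ c = -1)
    (hd : d = 1 ∨ d = -1) (h : a * f * g = a * b * d * (a * c * e)) : d * c * g = a * c * e * (b * c * f) := by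
  rcases ha with rfl | rfl <;> rcases hf with rfl | rfl <;> rcases hc with rfl | rfl <;> rcases hd with rfl | rfl <;>
    first | linear_combination h | linear_combination -h

theorem bt_bil (h2 : ∀ x ∈ X, x * x = 1) (hgen : X ≤ closure {x | x ∈ X ∧ B x}) :
    ∀ x ∈ X, ∀ u ∈ X, ∀ v ∈ X, bt x (u * v) = bt x u * bt x v := by
  intro x hx
  have key : x ∈ X ∧ ∀ u ∈ X, ∀ v ∈ X, bt x (u * v) = bt x u * bt x v := by
    refine closure_induction (p := fun x _ => x ∈ X ∧ ∀ u ∈ X, ∀ v ∈ X, bt x (u * v) = bt x u * bt x v)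
      (fun z hz => ⟨hz.1, fun u hu v hv => ?_⟩) ⟨one_mem _, fun u _ v _ => ?_⟩ (fun a b _ _ ha hb => ?_)
      (fun a _ ha => by rwa [inv_eq_of_mul_eq_one_left (h2 a ha.1)]) (hgen hx)
    · have h := add_B hz.2 (comm2 h2 hu hz.1) (comm2 h2 hv hz.1) (h2 u hu) (h2 v hv) (h2 _ (mul_mem hu hv))
      rw [← bt_iff hz.2, ← bt_iff hz.2, ← bt_iff hz.2] at h
      rcases bt_cases z (u * v) with a | a <;> rcases bt_cases z u with b | b <;> rcases bt_cases z v with c | c <;>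
        rw [a, b, c] at h ⊢ <;> revert h <;> norm_num
    · simp only [bt, one_mul, sg_one]
      rcases sg_cases (u * v) with a | a <;> rcases sg_cases u with b | b <;> rcases sg_cases v with c | c <;>
        rw [a, b, c] <;> norm_num
    · have h : ∀ w ∈ X, bt (a * b) w = bt a w * bt b w := fun w hw => by
        have h1 := ha.2 b hb.1 w hw
        unfold bt at h1 ⊢
        rw [← mul_assoc a b w] at h1
        exact sign_step (sg_cases _) (sg_cases _) (sg_cases _) (sg_cases _) h1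
      refine ⟨mul_mem ha.1 hb.1, fun u hu v hv => ?_⟩
      rw [h _ (mul_mem hu hv), h u hu, h v hv, ha.2 u hu v hv, hb.2 u hu v hv]
      ring
  exact key.2

open Classical in
theorem ncard_eq_sum [Fintype X] (p : G → Prop) :
    ({x | x ∈ X ∧ p x}.ncard : ℤ) = ∑ x : X, if p x then 1 else 0 := by
  rw [Finset.sum_boole, ← Fintype.card_subtype, ← Nat.card_eq_fintype_card, ← Nat.card_coe_set_eq]
  exact congrArg _ (Nat.card_congr ⟨fun x => ⟨⟨x.1, x.2.1⟩, x.2.2⟩, fun x => ⟨x.1, x.1.2, x.2⟩, fun _ => rfl,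
    fun _ => rfl⟩)

theorem num_gauss {k a b : ℕ} (hk : k ≤ 7) (h1 : 1 + a + b = 2 ^ k) (h2 : (1 + (b : ℤ) - a) ^ 2 = 2 ^ k) (hb : 1 ≤ b)
    (ha : a ≠ 1) : ¬ 2 ∣ b ∧ b ≤ 35 ∧ 2 ^ k ≤ 64 := by
  have h3 : (2 : ℤ) ^ k ≤ 128 := by exact_mod_cast Nat.pow_le_pow_right (by norm_num : 0 < 2) hk
  have h4 : 1 + (b : ℤ) - a ≤ 11 := by nlinarith
  have h5 : -11 ≤ 1 + (b : ℤ) - a := by nlinarith
  generalize hS : 1 + (b : ℤ) - a = S at h2 h4 h5
  interval_cases k <;> interval_cases S <;> omega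

/-- the form is non-degenerate -/
theorem two_mixed (h5 : BoxC5) (h : Ctx R) (hle : X ≤ R) (hX : Inv R X) (h2 : ∀ x ∈ X, x * x = 1)
    (bil : ∀ x ∈ X, ∀ u ∈ X, ∀ v ∈ X, bt x (u * v) = bt x u * bt x v)
    (nd : ∀ x ∈ X, x ≠ 1 → ∃ u ∈ X, bt x u = -1) {z : G} (hz : z ∈ X) (zB : B z) : TwoOK R := by
  classical
  have := finG
  have f2 : Fact (Nat.Prime 2) := ⟨Nat.prime_two⟩
  have _ := Fintype.ofFinite X
  have hn := hX.conj
  have s0 : ∀ x ∈ X, x ≠ 1 → ∑ y : X, bt x y = 0 := by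
    intro x hx x1
    obtain ⟨u, hu, e⟩ := nd x hx x1
    have h1 := Equiv.sum_comp (Equiv.mulLeft (⟨u, hu⟩ : X)) fun y : X => bt x y
    have h3 : ∀ y : X, bt x ((Equiv.mulLeft (⟨u, hu⟩ : X) y : X) : G) = - bt x y := fun y => by
      rw [show ((Equiv.mulLeft (⟨u, hu⟩ : X) y : X) : G) = u * y from rfl, bil x hx u hu y y.2, e, neg_one_mul]
    rw [Finset.sum_congr rfl fun y _ => h3 y, Finset.sum_neg_distrib] at h1
    omega
  have sq : ∀ x, sg x * sg x = 1 := fun x => by rcases sg_cases x with a | a <;> rw [a] <;> norm_num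
  have tr : ∀ x : X, ∑ y : X, sg ((x : G) * y) = ∑ y : X, sg y := fun x =>
    Equiv.sum_comp (Equiv.mulLeft x) fun y : X => sg y
  have cX : ∑ _y : X, (1 : ℤ) = Nat.card X := by
    rw [Finset.sum_const, Finset.card_univ, Nat.card_eq_fintype_card, nsmul_eq_mul, mul_one]
  have gauss : (∑ y : X, sg y) ^ 2 = Nat.card X := by
    have h1 : (∑ y : X, sg y) ^ 2 = ∑ x : X, ∑ y : X, sg y * bt y x := by
      rw [pow_two, Finset.sum_mul]
      refine Finset.sum_congr rfl fun x _ => ?_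
      rw [← tr x, Finset.mul_sum]
      refine Finset.sum_congr rfl fun y _ => ?_
      rw [bt, comm2 h2 y.2 x.2]
      linear_combination (-(sg x * sg ((x : G) * y))) * sq y
    rw [h1, Finset.sum_comm, Finset.sum_eq_single (1 : X) (fun y _ y1 => by
      rw [← Finset.mul_sum, s0 y y.2 fun e => y1 (Subtype.ext e), mul_zero]) (fun h => absurd (Finset.mem_univ _) h),
      ← cX]
    refine Finset.sum_congr rfl fun x _ => ?_
    rw [bt, OneMemClass.coe_one, one_mul (x : G), sg_one, one_mul, one_mul, sq]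
  have tri : ∀ x : X, ((x : G) = 1 ∧ ¬ A x ∧ ¬ B x) ∨ ((x : G) ≠ 1 ∧ A x ∧ ¬ B x) ∨ ((x : G) ≠ 1 ∧ ¬ A x ∧ B x) := by
    intro x
    by_cases e : (x : G) = 1
    · exact Or.inl ⟨e, fun h => h.ne e, fun h => h.ne e⟩
    · exact Or.inr ((inv_cases (h2 x x.2) e).imp (fun h => ⟨e, h, not_A_B h⟩) fun h => ⟨e, fun h' => not_A_B h' h, h⟩)
  have c1 : ∑ x : X, (if (x : G) = 1 then (1 : ℤ) else 0) = 1 := by
    exact (Finset.sum_eq_single (1 : X) (fun y _ y1 => if_neg fun e => y1 (Subtype.ext e))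
      (fun h => absurd (Finset.mem_univ _) h)).trans (if_pos rfl)
  have cA := ncard_eq_sum (X := X) A
  have cB := ncard_eq_sum (X := X) B
  have e1 : 1 + {x | x ∈ X ∧ A x}.ncard + {x | x ∈ X ∧ B x}.ncard = Nat.card X := by
    zify
    rw [cA, cB, ← cX]
    nth_rewrite 1 [← c1]
    rw [← Finset.sum_add_distrib, ← Finset.sum_add_distrib]
    refine Finset.sum_congr rfl fun x _ => ?_
    rcases tri x with ⟨a, b, c⟩ | ⟨a, b, c⟩ | ⟨a, b, c⟩
    · rw [if_pos a, if_neg b, if_neg c]; norm_num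
    · rw [if_neg a, if_pos b, if_neg c]; norm_num
    · rw [if_neg a, if_neg b, if_pos c]; norm_num
  have e2 : 1 + ({x | x ∈ X ∧ B x}.ncard : ℤ) - {x | x ∈ X ∧ A x}.ncard = ∑ y : X, sg y := by
    rw [cA, cB]
    nth_rewrite 1 [← c1]
    rw [← Finset.sum_add_distrib, ← Finset.sum_sub_distrib]
    refine Finset.sum_congr rfl fun x _ => ?_
    rcases tri x with ⟨a, b, c⟩ | ⟨a, b, c⟩ | ⟨a, b, c⟩
    · rw [if_pos a, if_neg b, if_neg c, sg_nA b]; norm_num
    · rw [if_neg a, if_pos b, if_neg c, sg_A b]; norm_num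
    · rw [if_neg a, if_neg b, if_pos c, sg_nA b]; norm_num
  let Y : Subgroup G :=
    { carrier := {x | x ∈ X ∧ bt z x = 1}
      one_mem' := ⟨one_mem _, by rw [bt, mul_one z, sg_B zB, sg_one]; norm_num⟩
      mul_mem' := fun {a b} ha hb => ⟨mul_mem ha.1 hb.1, by rw [bil z hz a ha.1 b hb.1, ha.2, hb.2, one_mul]⟩
      inv_mem' := fun {a} ha => by rwa [inv_eq_of_mul_eq_one_left (h2 a ha.1)] }
  have e3 : 2 * ({x | x ∈ X ∧ bt z x = 1}.ncard : ℤ) = Nat.card X := by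
    have h1 : (Nat.card X : ℤ) = ∑ y : X, (1 + bt z y) := by
      rw [Finset.sum_add_distrib, cX, s0 z hz zB.ne, add_zero]
    rw [ncard_eq_sum, Finset.mul_sum, h1]
    refine Finset.sum_congr rfl fun x _ => ?_
    rcases bt_cases z x with a | a <;> rw [a] <;> norm_num
  have e4 : 4 * ({x | x ∈ X ∧ (bt z x = -1 ∧ sg x = 1)}.ncard : ℤ) = Nat.card X := by
    have h1 : (Nat.card X : ℤ) = ∑ y : X, (1 + sg y - bt z y - sg (z * y)) := by
      rw [Finset.sum_sub_distrib, Finset.sum_sub_distrib, Finset.sum_add_distrib, cX, s0 z hz zB.ne, tr ⟨z, hz⟩]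
      ring
    rw [ncard_eq_sum, Finset.mul_sum, h1]
    refine Finset.sum_congr rfl fun x _ => ?_
    rw [bt, sg_B zB]
    rcases sg_cases x with a | a <;> rcases sg_cases (z * x) with b | b <;> rw [a, b] <;> norm_num
  have hY : {x | x ∈ X ∧ bt z x = 1}.ncard ≤ 64 :=
    (elab_B zB (X := Y) (fun x hx => h2 x hx.1) (fun x hx => comm2 h2 hx.1 hz) fun x hx => (bt_iff zB x).1 hx.2).1
  obtain ⟨k, hk⟩ := IsPGroup.iff_card.1 (pgroup_of_sq h2)
  have hb : 1 ≤ {x | x ∈ X ∧ B x}.ncard := (Set.ncard_pos (Set.toFinite _)).2 ⟨z, hz, zB⟩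
  obtain ⟨n1, n2, n3⟩ := num_gauss (k := k) ((Nat.pow_le_pow_iff_right (by norm_num : 1 < 2)).1 (by rw [← hk]; omega))
    (e1.trans hk) (by rw [e2, gauss, hk]; norm_num) hb (fun e => by
      obtain ⟨u, hu⟩ := Set.ncard_eq_one.1 e
      have h1 : u ∈ {x | x ∈ X ∧ A x} := hu ▸ Set.mem_singleton u
      obtain ⟨v, a, b, c⟩ := two_A h hle hX h1.1 h1.2
      exact c (Set.mem_singleton_iff.1 (hu ▸ (⟨a, b⟩ : v ∈ {x | x ∈ X ∧ A x}))))
  refine twoOK_of h5 ?_ {x | x ∈ X ∧ B x} (fun _ hx => hx.2) n2 fun t ht t2 => ?_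
  · obtain ⟨w, hw⟩ := (Set.ncard_pos (s := {x | x ∈ X ∧ (bt z x = -1 ∧ sg x = 1)}) (Set.toFinite _)).1 (by
      have : 0 < Nat.card X := Nat.card_pos
      omega)
    have h1 := card_le_orbit (S := R) (Z := {x | x ∈ X ∧ B x}) (y := z) fun s hs => ⟨hn s hs z hz, (B_conj s).2 zB⟩
    have h3 := card_le_orbit (S := R ⊓ centralizer {z}) (Z := {x | x ∈ X ∧ (bt z x = -1 ∧ sg x = 1)}) (y := w)
      fun s hs => ⟨hn s hs.1 w hw.1, by
        rw [← hw.2.1, ← bt_aut (MulAut.conj s) z w, MulAut.conj_apply s z, mem_centralizer_singleton_iff.1 hs.2,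
          mul_inv_cancel_right]
        rfl, (sg_aut (MulAut.conj s) w).trans hw.2.2⟩
    have h4 := (card_le_of_le (inf_le_inf_right (centralizer {w}) (inf_le_right : R ⊓ centralizer {z} ≤ _))).trans
      (swap_B zB (comm2 h2 hw.1 hz) (h2 w hw.1) fun e => by
        have h6 := (bt_iff zB w).2 e
        rw [hw.2.1] at h6
        omega)
    exact h1.trans ((Nat.mul_le_mul n2 (h3.trans (Nat.mul_le_mul (by omega : _ ≤ 16) h4))).trans (by norm_num))
  · have _ := Fintype.ofFinite {x | x ∈ X ∧ B x}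
    let f : {x | x ∈ X ∧ B x} → {x | x ∈ X ∧ B x} := fun x => ⟨t * x * t⁻¹, hn t ht x x.2.1, (B_conj t).2 x.2.2⟩
    have hf : Function.Involutive f := fun x => Subtype.ext (by
      show t * (t * x * t⁻¹) * t⁻¹ = x
      rw [show t * (t * x * t⁻¹) * t⁻¹ = t * t * x * (t * t)⁻¹ by group, t2]
      group)
    obtain ⟨x, hx⟩ := Equiv.Perm.exists_fixed_point_of_prime (p := 2) (n := 1) (σ := hf.toPerm)
      (by rwa [← Nat.card_eq_fintype_card, Nat.card_coe_set_eq]) (Equiv.ext fun x => hf x)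
    exact ⟨x, x.2, mul_inv_eq_iff_eq_mul.1 (congrArg Subtype.val hx)⟩

/-- **The case `O₂(R) ≠ 1`.** -/
theorem boxTwo_of (h5 : BoxC5) : BoxTwo := by
  intro R h h2
  have := finG
  obtain ⟨X, ⟨hle, hX, X2, z, hz, zB⟩, hmin⟩ := (wellFounded_lt (α := Subgroup G)).has_min
    {X | X ≤ R ∧ Inv R X ∧ (∀ x ∈ X, x * x = 1) ∧ ∃ z ∈ X, B z} (exists_X h h2)
  have mn : ∀ Y : Subgroup G, Y ≤ X → Inv R Y → (∃ z ∈ Y, B z) → X ≤ Y := fun Y h1 h3 h4 =>
    (eq_of_le_of_not_lt h1 (hmin Y ⟨h1.trans hle, h3, fun x hx => X2 x (h1 hx), h4⟩)).ge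
  have bil := bt_bil X2 (mn _ ((closure_le _).2 fun _ hx => hx.1)
    (inv_closure fun α hα x hx => ⟨hX α hα x hx.1, hx.2.aut α⟩) ⟨z, subset_closure ⟨hz, zB⟩, zB⟩)
  have sym : ∀ x ∈ X, ∀ u ∈ X, bt x u = bt u x := fun x hx u hu => by rw [bt, bt, comm2 X2 hx hu, mul_comm (sg x)]
  let Y : Subgroup G :=
    { carrier := {x | x ∈ X ∧ ∀ u ∈ X, bt x u = 1}
      one_mem' := ⟨one_mem _, fun u _ => by
        rw [bt, one_mul u, sg_one]
        rcases sg_cases u with a | a <;> rw [a] <;> norm_num⟩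
      mul_mem' := fun {a b} ha hb => ⟨mul_mem ha.1 hb.1, fun u hu => by
        rw [sym _ (mul_mem ha.1 hb.1) u hu, bil u hu a ha.1 b hb.1, ← sym a ha.1 u hu, ← sym b hb.1 u hu, ha.2 u hu,
          hb.2 u hu, one_mul]⟩
      inv_mem' := fun {a} ha => by rwa [inv_eq_of_mul_eq_one_left (X2 a ha.1)] }
  have YX : Y ≤ X := fun _ hx => hx.1
  have YI : Inv R Y := fun α hα x hx => ⟨hX α hα x hx.1, fun u hu => by
    rw [← hx.2 _ (hX α⁻¹ (stab_inv hα) u hu), ← bt_aut α x, MulAut.apply_inv_self]⟩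
  have mulA : ∀ a ∈ Y, ∀ b ∈ Y, sg (a * b) = sg a * sg b := fun a ha b hb => by
    have h1 := ha.2 b hb.1
    unfold bt at h1
    rcases sg_cases a with c | c <;> rcases sg_cases b with d | d <;> rw [c, d] at h1 ⊢ <;> omega
  by_cases hY : ∃ w ∈ Y, B w
  · obtain ⟨w, hw, wB⟩ := hY
    let Y0 : Subgroup G :=
      { carrier := {x | x ∈ Y ∧ sg x = 1}
        one_mem' := ⟨one_mem _, sg_one⟩
        mul_mem' := fun {a b} ha hb => ⟨mul_mem ha.1 hb.1, by rw [mulA a ha.1 b hb.1, ha.2, hb.2, one_mul]⟩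
        inv_mem' := fun {a} ha => by rwa [inv_eq_of_mul_eq_one_left (X2 a ha.1.1)] }
    have h1 := mn Y0 (fun _ hx => hx.1.1) (fun α hα x hx => ⟨YI α hα x hx.1, (sg_aut α x).trans hx.2⟩)
      ⟨w, ⟨hw, sg_B wB⟩, wB⟩
    refine two_pure h5 h.sol hX.conj X2 (fun x hx x1 => (inv_cases (X2 x hx) x1).resolve_left fun hA => ?_) hz zB.ne
    have h3 : sg x = 1 := (h1 hx).2
    rw [sg_A hA] at h3
    omega
  · push Not at hY
    refine two_mixed h5 h hle hX X2 bil (fun x hx x1 => ?_) hz zB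
    by_contra hcon
    push Not at hcon
    have h1 : x ∈ Y := ⟨hx, fun u hu => (bt_cases x u).resolve_right (hcon u hu)⟩
    have h3 := (inv_cases (X2 x hx) x1).resolve_right (hY x h1)
    obtain ⟨v, a, b, c⟩ := two_A h (YX.trans hle) YI h1 h3
    have h4 := mulA v a x h1
    rw [sg_A b, sg_A h3] at h4
    have h6 := (inv_cases (X2 _ (mul_mem a.1 hx)) fun e => c
      ((eq_inv_of_mul_eq_one_left e).trans (inv_eq_of_mul_eq_one_left h3.sq))).resolve_right (hY _ (mul_mem a h1))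
    rw [sg_A h6] at h4
    omega

end Cfsg.Agent.SB.SporD.HN
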