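import Cfsg.Agent.SB.SporD.HNE
import Cfsg.Agent.H58.Mon.Thirteen

/-!
# S5765, the row `HN`: facts for an arbitrary involution of the class 2B, counting (helper26)
-/

set_option autoImplicit false

namespace Cfsg.Agent.SB.SporD.HN

open Subgroup Cfsg Cfsg.Agent.H786.FC Cfsg.Agent.SB.Mon Cfsg.Agent.SB.Spor
open Cfsg.Agent.HN.XWords (W0)
open Cfsg.Agent.KFacts.HN
open Cfsg.Agent.H653.HNE
open Cfsg.Agent.H651.HNF (raw cn)

theorem B.exists_conj {z : G} (h : B z) : ∃ g : G, g * z * g⁻¹ = W0 := isConj_iff.1 (IsConj.symm h)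

theorem to_PP {g z x : G} (hg : g * z * g⁻¹ = W0) (h : x * z = z * x) : g * x * g⁻¹ ∈ PP := by
  rw [mem_PP, ← hg]
  calc g * x * g⁻¹ * (g * z * g⁻¹) = g * (x * z) * g⁻¹ := by group
    _ = _ := by rw [h]; group

theorem sq_conj {x : G} (g : G) (h : x * x = 1) : g * x * g⁻¹ * (g * x * g⁻¹) = 1 := by
  rw [conj_mul, h]; group

theorem MM_conj {g z x : G} (hg : g * z * g⁻¹ = W0) (h : x * z = z * x) (h2 : x * x = 1) :
    g * x * g⁻¹ ∈ MM ↔ (A x ↔ A (z * x)) := by
  rw [MM_iff_A (to_PP hg h) (sq_conj g h2), ← hg, conj_mul, A_conj, A_conj, h]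

theorem card_cent_le {g z : G} (hg : g * z * g⁻¹ = W0) (u : G) :
    Nat.card ↥(centralizer {z} ⊓ centralizer {u}) ≤ Nat.card ↥(PP ⊓ centralizer {g * u * g⁻¹}) :=
  card_inf_conj u fun _ hx => to_PP hg (mem_centralizer_singleton_iff.1 hx)

theorem add_B {z u v : G} (hz : B z) (hu : u * z = z * u) (hv : v * z = z * v) (u2 : u * u = 1) (v2 : v * v = 1)
    (h2 : u * v * (u * v) = 1) : (A (u * v) ↔ A (z * (u * v))) ↔ ((A u ↔ A (z * u)) ↔ (A v ↔ A (z * v))) := by
  obtain ⟨g, hg⟩ := hz.exists_conj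
  rw [← MM_conj hg hu u2, ← MM_conj hg hv v2, ← MM_conj hg (by rw [mul_assoc, hv, ← mul_assoc, hu, mul_assoc]) h2,
    ← conj_mul]
  exact mul_mem_iff_of_index_two (H := MM.subgroupOf PP) relIndex_MM (a := ⟨_, to_PP hg hu⟩) (b := ⟨_, to_PP hg hv⟩)

theorem swap_B {z u : G} (hz : B z) (hu : u * z = z * u) (u2 : u * u = 1) (h : ¬ (A u ↔ A (z * u))) :
    Nat.card ↥(centralizer {z} ⊓ centralizer {u}) ≤ 3840 := by
  obtain ⟨g, hg⟩ := hz.exists_conj
  exact (card_cent_le hg u).trans (card_swap (to_PP hg hu) (sq_conj g u2) (by rwa [MM_conj hg hu u2]))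

theorem card_cjg (g : G) (X : Subgroup G) : Nat.card (X.map (MulAut.conj g).toMonoidHom) = Nat.card X :=
  card_map_of_injective (MulAut.conj g).injective

theorem elab_B {z : G} (hz : B z) {X : Subgroup G} (h2 : ∀ x ∈ X, x * x = 1) (hc : ∀ x ∈ X, x * z = z * x)
    (hK : ∀ x ∈ X, A x ↔ A (z * x)) :
    Nat.card X ≤ 64 ∧ (Nat.card X ≤ 32 ∨ ∃ u ∈ X, Nat.card ↥(centralizer {z} ⊓ centralizer {u}) ≤ 512) := by
  obtain ⟨g, hg⟩ := hz.exists_conj
  have h3 : ∀ x ∈ X.map (MulAut.conj g).toMonoidHom, x * x = 1 := by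
    rintro _ ⟨x, hx, rfl⟩
    exact sq_conj g (h2 x hx)
  have h := card_elab (X := X.map (MulAut.conj g).toMonoidHom) (by
    rintro _ ⟨x, hx, rfl⟩
    exact (MM_conj hg (hc x hx) (h2 x hx)).2 (hK x hx)) h3
    fun x hx y hy => comm_of_sq (h3 x hx) (h3 y hy) (h3 _ (mul_mem hx hy))
  rw [card_cjg] at h
  refine ⟨h.1, h.2.imp id ?_⟩
  rintro ⟨_, ⟨u, hu, rfl⟩, h4⟩
  exact ⟨u, hu, (card_cent_le hg u).trans h4⟩

theorem ncard_conj {z : G} (hz : B z) {D : G → Prop} (hD : ∀ g x, D x → D (g * x * g⁻¹)) :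
    {x : G | D x ∧ x * z = z * x}.ncard ≤ {x : G | D x ∧ x ∈ PP}.ncard := by
  obtain ⟨g, hg⟩ := hz.exists_conj
  exact Set.ncard_le_ncard_of_injOn (fun x => g * x * g⁻¹) (fun x hx => ⟨hD g x hx.1, to_PP hg hx.2⟩)
    (fun x _ y _ e => by simpa using e) (Set.toFinite _)

theorem sol_B {z : G} (hz : B z) {R : Subgroup G} (hs : Group.IsSolvable R) :
    Nat.card ↥(R ⊓ centralizer {z}) ≤ 147456 := by
  obtain ⟨g, hg⟩ := hz.exists_conj
  have h1 : Group.IsSolvable ↥(R ⊓ centralizer {z}) :=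
    Group.isSolvable_of_isSolvable_injective (f := inclusion inf_le_left) (inclusion_injective _)
  rw [← card_cjg g]
  refine sol_PP ?_ (Group.isSolvable_of_surjective (MonoidHom.subgroupMap_surjective _ _))
  rintro _ ⟨x, hx, rfl⟩
  exact to_PP hg (mem_centralizer_singleton_iff.1 hx.2)

theorem pgroup_of_sq {X : Subgroup G} (h2 : ∀ x ∈ X, x * x = 1) : IsPGroup 2 X := fun x =>
  ⟨1, Subtype.ext (by rw [pow_one, pow_two]; exact h2 x x.2)⟩

theorem pure_A {X : Subgroup G} (h2 : ∀ x ∈ X, x * x = 1) (hA : ∀ x ∈ X, x ≠ 1 → A x) : Nat.card X ≤ 4 := by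
  obtain ⟨z, hz, hc⟩ := exists_B (pgroup_of_sq h2)
  obtain ⟨g, hg⟩ := hz.exists_conj
  rw [← card_cjg g]
  refine card_pure ?_ ?_
  · rintro _ ⟨x, hx, rfl⟩
    exact to_PP hg (hc x hx)
  · rintro _ ⟨x, hx, rfl⟩ h1
    exact (A_conj g).2 (hA x hx fun e => h1 (by rw [e, map_one]))

theorem odd_bot' {U : Subgroup G} {z u v : G} {p : ℕ} (hp : p.Prime) (hp2 : p ≠ 2) (hz : B z) (hu : u * z = z * u)
    (hv : v * z = z * v) (h1 : A u) (h2 : A v) (h3 : A (u * v)) (hU : IsPGroup p U) (h4 : Nat.card U < p ^ 4)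
    (hn : ∀ e : G, e * u = u * e → e * v = v * e → ∀ y ∈ U, e * y * e⁻¹ ∈ U) : U = ⊥ := by
  obtain ⟨g, hg⟩ := hz.exists_conj
  obtain ⟨d, c1, c2⟩ := four_RS (to_PP hg hu) (to_PP hg hv) ((A_conj g).2 h1) ((A_conj g).2 h2)
    (by rw [conj_mul]; exact (A_conj g).2 h3)
  have e : ∀ x : G, d * (g * x * g⁻¹) * d⁻¹ = d * g * x * (d * g)⁻¹ := fun x => by group
  rw [e] at c1 c2
  generalize d * g = k at c1 c2
  have back : ∀ {x y : G}, x * (k * y * k⁻¹) = k * y * k⁻¹ * x → k⁻¹ * x * k * y = y * (k⁻¹ * x * k) := fun {x y} h => by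
    calc k⁻¹ * x * k * y = k⁻¹ * (x * (k * y * k⁻¹)) * k := by group
      _ = _ := by rw [h]; group
  refine (map_eq_bot_iff_of_injective U (MulAut.conj k).injective).1 (odd_bot (U := U.map (MulAut.conj k).toMonoidHom)
    hp hp2 c1 c2 (by rw [conj_mul, conj_mul, comm_of_sq h1.sq h2.sq h3.sq]) (hU.map _) (by rwa [card_cjg]) ?_)
  rintro x a b _ ⟨y, hy, rfl⟩
  refine ⟨_, hn _ (back a) (back b) y hy, ?_⟩
  show k * _ * k⁻¹ = x * (k * y * k⁻¹) * x⁻¹
  group

/-- the centralizer of an involution of the class 2A is not solvable -/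
theorem not_solvable_A {u : G} (hu : A u) : ¬ Group.IsSolvable (centralizer ({u} : Set G)) := by
  intro hH
  have f7 : Fact (Nat.Prime 7) := ⟨by norm_num⟩
  have f11 : Fact (Nat.Prime 11) := ⟨by norm_num⟩
  have hc := hu.cent
  obtain ⟨T, s, hs, -, hTi, hTs⟩ := H58.MonThirteen.exists_commuting (p := 7) (q := 11) (n := 1) (m := 1) hH
    (by norm_num) (by rw [hc]; norm_num) (by rw [hc]; norm_num)
    (fun i a b => by rw [le_antisymm b a]; norm_num) (by rw [hc]; norm_num)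
    (fun i a b => by rw [le_antisymm b a]; norm_num)
  have h3 : 7 ∣ Nat.card T := by
    have h4 : 7 ∣ Nat.card (centralizer ({u} : Set G)) := by rw [hc]; norm_num
    rw [← T.card_mul_index] at h4
    exact (f7.out.dvd_mul.1 h4).resolve_right hTi
  obtain ⟨t, ht⟩ := exists_prime_orderOf_dvd_card' 7 h3
  have h5 := raw.r11 (s : G) (by rw [Subgroup.orderOf_coe, hs])
  have h6 : 7 ∣ cn (s : G) := by
    rw [← ht, ← Subgroup.orderOf_coe, ← Subgroup.orderOf_coe]
    exact Subgroup.orderOf_dvd_natCard _ (mem_centralizer_singleton_iff.2 (congrArg Subtype.val (hTs _ t.2)))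
  rw [h5] at h6
  omega

variable {R X : Subgroup G}

/-- an invariant subgroup does not contain exactly one involution of the class 2A -/
theorem two_A (h : Ctx R) (hle : X ≤ R) (hX : Inv R X) {u : G} (hu : u ∈ X) (hA : A u) : ∃ v ∈ X, A v ∧ v ≠ u := by
  by_contra hcon
  push Not at hcon
  refine not_solvable_A hA (h.solv_of_le fun g hg => h.cent (X := zpowers u) (fun e => hA.ne (zpowers_eq_bot.1 e))
    (zpowers_le.2 (hle hu)) ?_ ?_)
  · rintro α hα _ ⟨k, rfl⟩
    rw [map_zpow, hcon _ (hX α hα u hu) (hA.aut α)]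
    exact zpow_mem (mem_zpowers u) k
  · rintro _ ⟨k, rfl⟩
    exact ((show Commute g u from mem_centralizer_singleton_iff.1 hg).zpow_right k).eq

/-- there is an invariant elementary abelian subgroup which contains an involution of the class 2B -/
theorem exists_X (h : Ctx R) (h2 : ∃ c ∈ fit R, orderOf c = 2) :
    ∃ X : Subgroup G, X ≤ R ∧ Inv R X ∧ (∀ x ∈ X, x * x = 1) ∧ ∃ z ∈ X, B z := by
  obtain ⟨c, hc, oc⟩ := h2
  have f2 : Fact (Nat.Prime 2) := ⟨Nat.prime_two⟩
  have hab : ∀ x ∈ core 2 R ⊓ centralizer (core 2 R : Set G), ∀ y ∈ core 2 R ⊓ centralizer (core 2 R : Set G),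
      x * y = y * x := fun x hx y hy => mem_centralizer_iff.1 hy.2 x hx.1
  obtain ⟨Y, hY⟩ : ∃ Y, Y = omg _ hab 2 := ⟨_, rfl⟩
  have mY : ∀ {x : G}, x ∈ Y ↔ (x ∈ core 2 R ∧ ∀ y ∈ core 2 R, y * x = x * y) ∧ x * x = 1 := fun {x} => by
    rw [hY, mem_omg, mem_inf, mem_centralizer_iff, pow_two]
    rfl
  have YR : Y ≤ R := fun x hx => map_subtype_le _ (mY.1 hx).1.1
  have YI : Inv R Y := hY ▸ ((inv_core R Nat.prime_two).inf (inv_core R Nat.prime_two).cz).omg hab 2
  have Y2 : ∀ x ∈ Y, x * x = 1 := fun x hx => (mY.1 hx).2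
  refine ⟨Y, YR, YI, Y2, ?_⟩
  by_contra hB
  push Not at hB
  have hA : ∀ x ∈ Y, x ≠ 1 → A x := fun x hx h1 => (inv_cases (Y2 x hx) h1).resolve_right (hB x hx)
  obtain ⟨u, hu, u1⟩ : ∃ u ∈ Y, u ≠ 1 := by
    have hnt : Nontrivial (core 2 R) := (nontrivial_iff_exists_ne_one _).2 ⟨c, mem_core hc Nat.prime_two oc, fun e => by
      rw [e, orderOf_one] at oc
      omega⟩
    have h3 := (core_pgroup (S := R) 2).center_nontrivial
    obtain ⟨w, hw⟩ := exists_prime_orderOf_dvd_card' (G := center (core 2 R)) 2 (by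
      obtain ⟨k, hk, e⟩ := ((core_pgroup (S := R) 2).to_subgroup (center _)).nontrivial_iff_card.1 h3
      rw [e]
      exact dvd_pow_self 2 hk.ne')
    rw [← Subgroup.orderOf_coe, ← Subgroup.orderOf_coe] at hw
    refine ⟨w.1.1, mY.2 ⟨⟨w.1.2, fun y hy => congrArg Subtype.val (mem_center_iff.1 w.2 ⟨y, hy⟩)⟩, ?_⟩, fun e => ?_⟩
    · have h4 := pow_orderOf_eq_one (w.1.1 : G)
      rwa [hw, pow_two] at h4
    · rw [e, orderOf_one] at hw
      omega
  have Au := hA u hu u1
  obtain ⟨v, hv, Av, vu⟩ := two_A h YR YI hu Au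
  have Auv : A (u * v) := hA _ (mul_mem hu hv) fun e =>
    vu ((eq_inv_of_mul_eq_one_right e).trans (inv_eq_of_mul_eq_one_left Au.sq))
  have hcov : ∀ x ∈ Y, x = 1 ∨ x = u ∨ x = v ∨ x = u * v := by
    classical
    intro x hx
    by_contra hcon
    push Not at hcon
    have h3 : ({x, 1, u, v, u * v} : Finset G).card = 5 := by
      rw [Finset.card_insert_of_notMem (by simpa [not_or] using hcon),
        Finset.card_insert_of_notMem (by simp [u1.symm, Av.ne.symm, Auv.ne.symm]),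
        Finset.card_insert_of_notMem (by simp [vu.symm, Av.ne]),
        Finset.card_insert_of_notMem (by simp [u1]), Finset.card_singleton]
    have h4 : ({x, 1, u, v, u * v} : Finset G).card ≤ Nat.card Y := by
      rw [← Set.ncard_coe_finset, ← SetLike.coe_sort_coe, Nat.card_coe_set_eq]
      refine Set.ncard_le_ncard (fun y hy => ?_) (Set.toFinite _)
      simp only [Finset.coe_insert, Finset.coe_singleton, Set.mem_insert_iff, Set.mem_singleton_iff] at hy
      rcases hy with rfl | rfl | rfl | rfl | rfl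
      exacts [hx, one_mem _, hu, hv, mul_mem hu hv]
    have h5 := pure_A Y2 hA
    omega
  obtain ⟨z, hz, zc⟩ := exists_B (pgroup_of_sq Y2)
  have hodd : ∀ p : ℕ, p.Prime → p ≠ 2 → core p R = ⊥ := by
    intro p hp hp2
    have fp := Fact.mk hp
    refine odd_bot' hp hp2 hz (zc u hu) (zc v hv) Au Av Auv (core_pgroup p) ?_ fun e a b => core_conj p e ?_
    · have h3 : core p R ≤ centralizer {u} := fun y hy =>
        mem_centralizer_singleton_iff.2 (SporB.core_comm hp Nat.prime_two hp2 hy (mY.1 hu).1.1)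
      have h4 := card_dvd_of_le h3
      obtain ⟨k, hk⟩ := IsPGroup.iff_card.1 (core_pgroup (S := R) p)
      rw [Au.cent, hk] at h4
      rw [hk]
      refine Nat.pow_lt_pow_right hp.one_lt ?_
      by_contra h5
      have h6 := (pow_dvd_pow p (not_lt.1 h5)).trans h4
      rcases prime_dvd hp (((dvd_pow_self p (by norm_num)).trans h6).trans (by norm_num)) with
        e | e | e | e | e | e <;> subst e <;> first | exact hp2 rfl | norm_num at h6
    · refine h.cent (X := Y) (fun e => u1 (mem_bot.1 (e ▸ hu))) YR YI fun x hx => ?_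
      rcases hcov x hx with rfl | rfl | rfl | rfl
      · rw [mul_one, one_mul]
      · exact a
      · exact b
      · rw [← mul_assoc, a, mul_assoc, b, mul_assoc]
  have hF : IsPGroup 2 (fit R) := by
    refine IsPGroup.iff_card.2 ⟨_, Nat.eq_prime_pow_of_unique_prime_dvd Nat.card_pos.ne' fun {q} hq hd => ?_⟩
    have : Fact q.Prime := ⟨hq⟩
    obtain ⟨y, hy⟩ := exists_prime_orderOf_dvd_card' _ hd
    have hy' : orderOf (y : G) = q := by rw [Subgroup.orderOf_coe, hy]
    by_contra h3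
    have h4 := mem_core y.2 hq hy'
    rw [hodd q hq h3, mem_bot] at h4
    rw [h4, orderOf_one] at hy'
    exact hq.one_lt.ne hy'
  obtain ⟨w, hw, wc⟩ := exists_B hF
  have h3 := h.mem_fit fun f hf => (wc f hf).symm
  exact hB w (mY.2 ⟨⟨mem_core h3 Nat.prime_two (order_two hw.sq hw.ne), fun y hy => wc y (core_le_fit 2 hy)⟩, hw.sq⟩) hw

/-! ### counting -/

theorem ncard_le_mul {S Z : Set G} (f : G → Set G) {k : ℕ} (h : ∀ x ∈ S, ∃ z ∈ Z, x ∈ f z)
    (hk : ∀ z ∈ Z, (f z).ncard ≤ k) : S.ncard ≤ Z.ncard * k := by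
  classical
  rw [Set.ncard_eq_toFinset_card S, Set.ncard_eq_toFinset_card Z]
  refine le_trans (Finset.card_le_card fun x hx => ?_) (Finset.card_biUnion_le_card_mul _
    (fun z => (Set.toFinite (f z)).toFinset) k fun z hz => ?_)
  · obtain ⟨z, h1, h2⟩ := h x ((Set.Finite.mem_toFinset _).1 hx)
    exact Finset.mem_biUnion.2 ⟨z, (Set.Finite.mem_toFinset _).2 h1, (Set.Finite.mem_toFinset _).2 h2⟩
  · rw [← Set.ncard_eq_toFinset_card]
    exact hk z ((Set.Finite.mem_toFinset _).1 hz)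

theorem twoOK_of (h5 : BoxC5) (hR : Nat.card R ≤ 2211840) (Z : Set G) (hZ : ∀ z ∈ Z, B z) (hc : Z.ncard ≤ 35)
    (hf : ∀ t ∈ R, t * t = 1 → ∃ z ∈ Z, t * z = z * t) : TwoOK R := by
  classical
  have hA : {x : G | A x ∧ x ∈ R}.ncard ≤ 37800 :=
    (ncard_le_mul (fun z => {x : G | A x ∧ x * z = z * x}) (fun x hx => by
      obtain ⟨z, h1, h2⟩ := hf x hx.2 hx.1.sq
      exact ⟨z, h1, hx.1, h2⟩) fun z hz => (ncard_conj (hZ z hz) fun g _ => (A_conj g).2).trans ncard_A).trans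
      (Nat.mul_le_mul_right 1080 hc)
  have hB : {x : G | B x ∧ x ∈ R}.ncard ≤ 290885 :=
    (ncard_le_mul (fun z => {x : G | B x ∧ x * z = z * x}) (fun x hx => by
      obtain ⟨z, h1, h2⟩ := hf x hx.2 hx.1.sq
      exact ⟨z, h1, hx.1, h2⟩) fun z hz => (ncard_conj (hZ z hz) fun g _ => (B_conj g).2).trans ncard_B).trans
      (Nat.mul_le_mul_right 8311 hc)
  let k : G → ℕ := fun c => if A c then 37800 else if B c then 290885 else 2211840
  let m : G → ℕ := fun c => if A c then 177408000 else if B c then 3686400 else 630000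
  have hk : ∀ c, meet ⊤ R c ≤ k c := by
    intro c
    simp only [k]
    split_ifs with h1 h2
    · exact (meet_le_of_subset ⊤ R c {x : G | A x ∧ x ∈ R} fun x _ hx =>
        ⟨by simpa using (A_conj x⁻¹).2 h1, hx⟩).trans hA
    · exact (meet_le_of_subset ⊤ R c {x : G | B x ∧ x ∈ R} fun x _ hx =>
        ⟨by simpa using (B_conj x⁻¹).2 h2, hx⟩).trans hB
    · exact (meet_le_card _ _ c).trans hR
  have hm : ∀ c : G, (orderOf c).Prime → Nat.card (centralizer ({c} : Set G)) ≤ m c := by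
    intro c hp
    simp only [m]
    split_ifs with h1 h2
    · exact h1.cent.le
    · exact h2.cent.le
    · refine cn_odd h5 hp fun e => ?_
      rcases inv_cases (x := c) (by rw [← pow_two, ← e, pow_orderOf_eq_one]) (fun e' => by
        rw [e', orderOf_one] at e
        omega) with h | h
      exacts [h1 h, h2 h]
  refine ⟨four_of_sum (fun c => ((k c * m c : ℕ) : ℚ) / Nat.card (⊤ : Subgroup G))
    (fun c _ hp => w_le (hk c) (by rw [top_inf_eq]; exact hm c hp)) ?_, fun u hu => ?_, by rw [cardG]; omega⟩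
  · have h0 : (0 : ℚ) < (Nat.card (⊤ : Subgroup G) : ℚ) ^ 3 := by
      have : (0 : ℚ) < Nat.card (⊤ : Subgroup G) := by exact_mod_cast Nat.card_pos
      positivity
    simp only [div_pow]
    rw [← Finset.sum_div, div_lt_one h0]
    have key : ∀ (D : G → Prop) [DecidablePred D] (n : ℕ), {x : G | D x ∧ x ∈ R}.ncard ≤ n →
        ((primeElts R).filter fun x => D x).card ≤ n := by
      intro D _ n hn
      rw [← Set.ncard_coe_finset]
      exact (Set.ncard_le_ncard (fun x hx => by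
        obtain ⟨c1, c2⟩ := Finset.mem_filter.1 (Finset.mem_coe.1 hx)
        exact ⟨c2, (mem_primeElts.1 c1).1⟩) (Set.toFinite _)).trans hn
    have e : ∀ c, (k c * m c) ^ 3 ≤ (if A c then (37800 * 177408000) ^ 3 else 0) +
        (if B c then (290885 * 3686400) ^ 3 else 0) + (2211840 * 630000) ^ 3 := by
      intro c
      simp only [k, m]
      split_ifs <;> norm_num
    have h6 : ∑ c ∈ primeElts R, (k c * m c) ^ 3 < Nat.card (⊤ : Subgroup G) ^ 3 := by
      refine lt_of_le_of_lt (Finset.sum_le_sum fun c _ => e c) ?_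
      rw [Finset.sum_add_distrib, Finset.sum_add_distrib, ← Finset.sum_filter, ← Finset.sum_filter, Finset.sum_const,
        Finset.sum_const, Finset.sum_const, smul_eq_mul, smul_eq_mul, smul_eq_mul, card_top, cardG]
      have h7 := key A _ hA
      have h8 := key B _ hB
      have h9 := (card_primeElts_lt R).le.trans hR
      omega
    exact_mod_cast h6
  · obtain ⟨c, hc1, hp⟩ := exists_prime_order_zpowers hu
    have h6 := (hc_le_of_mem R hc1).trans (hc_le (hk c) (hm c hp))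
    have h7 : k c * m c ≤ 37800 * 177408000 := by
      simp only [k, m]
      split_ifs <;> norm_num
    rw [cardG]
    omega

end Cfsg.Agent.SB.SporD.HN
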